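import Groth.Agent.DynCell.Stab
import Mathlib.AlgebraicGeometry.OpenImmersion
import Mathlib.RingTheory.Localization.Away.Basic

/-! The open cell `U(-λ) × P(λ) → G`. -/

universe u

open TensorProduct WithConv AlgebraicGeometry CategoryTheory
open scoped Groth.Agent.DynLib

namespace Groth.Agent.DynCell

variable {k : Type u} [Field k] {A : Type u} [CommRing A] [HopfAlgebra k A]
  {lam lamNeg : A →ₐc[k] LaurentPolynomial k} {N : ℕ}

/-- The comorphism of the multiplication `U⁻ × P → G`. -/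
noncomputable abbrev cellMap (Jp Jm : Ideal A) : A →ₐ[k] (A ⧸ Jm) ⊗[k] (A ⧸ Jp) :=
  (Algebra.TensorProduct.map (Ideal.Quotient.mkₐ k Jm) (Ideal.Quotient.mkₐ k Jp)).comp (Bialgebra.comulAlgHom k A)

section

variable (Jp Jm : Ideal A)

/-- The first tautological point. -/
noncomputable abbrev iL : A →ₐ[k] (A ⧸ Jm) ⊗[k] (A ⧸ Jp) :=
  (Algebra.TensorProduct.includeLeft : (A ⧸ Jm) →ₐ[k] _).comp (Ideal.Quotient.mkₐ k Jm)

/-- The second tautological point. -/
noncomputable abbrev iR : A →ₐ[k] (A ⧸ Jm) ⊗[k] (A ⧸ Jp) :=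
  (Algebra.TensorProduct.includeRight : (A ⧸ Jp) →ₐ[k] _).comp (Ideal.Quotient.mkₐ k Jp)

theorem cellMap_eq : cellMap (k := k) Jp Jm = (toConv (iL (k := k) Jp Jm) * toConv (iR (k := k) Jp Jm)).ofConv := by
  ext a
  rw [HopfPtLib.convMul_eval]
  show Algebra.TensorProduct.map _ _ (Coalgebra.comul (R := k) a) = _
  induction Coalgebra.comul (R := k) a using TensorProduct.induction_on with
  | zero => simp
  | add x y hx hy => simp only [map_add, hx, hy]
  | tmul x y => simp [iL, iR]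

variable {Jp Jm} (hneg : (lamNeg : A →ₐ[k] LaurentPolynomial k) = Dyn.negParam k A lam)
  (hp : Dyn.Represents k A Jp (fun R _ _ g => Dyn.LimExists k A lam R g))
  (hm : Dyn.Represents k A Jm (fun R _ _ g => Dyn.LimIsOne k A lamNeg R g))
  (D : WeightMatrix lam N) {R : Type u} [CommRing R] [Algebra k R]

include hp in
theorem kills_Jp_iff (g : A →ₐ[k] R) : (∀ a ∈ Jp, g a = 0) ↔ IsUp D.wt (D.mat g) :=
  (hp R g).trans (D.limExists_iff g)

include hneg hm in
theorem kills_Jm_iff (g : A →ₐ[k] R) : (∀ a ∈ Jm, g a = 0) ↔ IsUniLow D.wt (D.mat g) :=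
  (hm R g).trans (D.limIsOne_neg_iff hneg g)

include hneg hp hm D in
/-- Two maps out of the cell agreeing on `G` agree. -/
theorem cell_hom_ext {θ θ' : (A ⧸ Jm) ⊗[k] (A ⧸ Jp) →ₐ[k] R}
    (h : θ.comp (cellMap Jp Jm) = θ'.comp (cellMap Jp Jm)) : θ = θ' := by
  have e : ∀ η : (A ⧸ Jm) ⊗[k] (A ⧸ Jp) →ₐ[k] R,
      D.mat (η.comp (cellMap Jp Jm)) = D.mat (η.comp (iL Jp Jm)) * D.mat (η.comp (iR Jp Jm)) := fun η => by
    rw [cellMap_eq, AlgHom.comp_convMul_distrib, ofConv_toConv, ← D.mat_mul]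
  have hU : ∀ η : (A ⧸ Jm) ⊗[k] (A ⧸ Jp) →ₐ[k] R, IsUniLow D.wt (D.mat (η.comp (iL Jp Jm))) := fun η =>
    (kills_Jm_iff hneg hm D _).mp fun a ha => by simp [iL, Ideal.Quotient.eq_zero_iff_mem.mpr ha]
  have hP : ∀ η : (A ⧸ Jm) ⊗[k] (A ⧸ Jp) →ₐ[k] R, IsUp D.wt (D.mat (η.comp (iR Jp Jm))) := fun η =>
    (kills_Jp_iff hp D _).mp fun a ha => by simp [iR, Ideal.Quotient.eq_zero_iff_mem.mpr ha]
  obtain ⟨h1, h2⟩ := lu_unique (hU θ) (hU θ') (hP θ) (hP θ') (D.isUnit_det _) (by rw [← e, ← e, h])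
  refine Algebra.TensorProduct.ext ?_ ?_
  · exact (AlgHom.cancel_right (Ideal.Quotient.mkₐ_surjective k Jm)).mp
      (by simpa [iL, AlgHom.comp_assoc] using D.hom_ext h1)
  · exact (AlgHom.cancel_right (Ideal.Quotient.mkₐ_surjective k Jp)).mp
      (by rw [AlgHom.comp_assoc, AlgHom.comp_assoc]; exact D.hom_ext h2)

include hneg hp hm in
/-- The cell function becomes invertible on the cell. -/
theorem isUnit_cellMap_cellFun :
    IsUnit (cellMap (k := k) Jp Jm (cellFun D.wt (D.mat (AlgHom.id k A)))) := by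
  have e : cellMap (k := k) Jp Jm (cellFun D.wt (D.mat (AlgHom.id k A))) =
      cellFun D.wt (D.mat (cellMap (k := k) Jp Jm)) :=
    map_cellFun D.wt (cellMap (k := k) Jp Jm).toRingHom _
  rw [e, cellMap_eq, D.mat_mul, ofConv_toConv, ofConv_toConv]
  exact isUnit_cellFun D.wt ((kills_Jm_iff hneg hm D _).mp fun a ha => by simp [iL, Ideal.Quotient.eq_zero_iff_mem.mpr ha])
    ((kills_Jp_iff hp D _).mp fun a ha => by simp [iR, Ideal.Quotient.eq_zero_iff_mem.mpr ha]) (D.isUnit_det _)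

include hneg hp hm in
/-- Points of the cell. -/
theorem exists_cell_point [Algebra.FiniteType k A] (g : A →ₐ[k] R) (hg : IsUnit (cellFun D.wt (D.mat g))) :
    ∃ θ : (A ⧸ Jm) ⊗[k] (A ⧸ Jp) →ₐ[k] R, θ.comp (cellMap Jp Jm) = g := by
  obtain ⟨v, p, hv, hp', e⟩ := exists_lu D.wt hg
  obtain ⟨g₁, g₂, e₁, e₂⟩ := D.exists_hom_of_lu hv hp' g e
  let θ₁ := Ideal.Quotient.liftₐ Jm g₁ ((kills_Jm_iff hneg hm D g₁).mpr (e₁ ▸ hv))
  let θ₂ := Ideal.Quotient.liftₐ Jp g₂ ((kills_Jp_iff hp D g₂).mpr (e₂ ▸ hp'))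
  refine ⟨Algebra.TensorProduct.productMap θ₁ θ₂, D.hom_ext ?_⟩
  have h1 : (Algebra.TensorProduct.productMap θ₁ θ₂).comp (iL Jp Jm) = g₁ := by
    ext a; simp [iL, θ₁]
  have h2 : (Algebra.TensorProduct.productMap θ₁ θ₂).comp (iR Jp Jm) = g₂ := by
    ext a; simp [iR, θ₂]
  rw [cellMap_eq, AlgHom.comp_convMul_distrib, ofConv_toConv, D.mat_mul, toConv_ofConv]
  simp only [ofConv_toConv, h1, h2, e₁, e₂]
  exact e

include hneg hp hm D in
/-- The cell is a principal open subset of the group. -/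
theorem exists_cellEquiv [Algebra.FiniteType k A] :
    ∃ e : Localization.Away (cellFun D.wt (D.mat (AlgHom.id k A))) ≃+* (A ⧸ Jm) ⊗[k] (A ⧸ Jp),
      ∀ a, e (algebraMap A _ a) = cellMap (k := k) Jp Jm a := by
  set f := cellFun D.wt (D.mat (AlgHom.id k A))
  let L := Localization.Away f
  let g : A →ₐ[k] L := IsScalarTower.toAlgHom k A L
  obtain ⟨θ, hθ⟩ := exists_cell_point hneg hp hm D g (by
    have : cellFun D.wt (D.mat g) = algebraMap A L f := (map_cellFun D.wt g.toRingHom _).symm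
    rw [this]
    exact IsLocalization.Away.algebraMap_isUnit f)
  let ψ : L →ₐ[k] (A ⧸ Jm) ⊗[k] (A ⧸ Jp) :=
    IsLocalization.liftAlgHom (M := Submonoid.powers f) (f := cellMap (k := k) Jp Jm) (fun y => by
      obtain ⟨n, hn⟩ := y.2
      rw [← hn, map_pow]
      exact (isUnit_cellMap_cellFun hneg hp hm D).pow n)
  have hψ : ψ.comp g = cellMap Jp Jm := AlgHom.ext fun a => IsLocalization.lift_eq _ a
  have h1 : ψ.comp θ = AlgHom.id k _ := cell_hom_ext hneg hp hm D (by rw [AlgHom.comp_assoc, hθ, hψ, AlgHom.id_comp])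
  have h2 : (θ.comp ψ).toRingHom = RingHom.id L := by
    refine IsLocalization.ringHom_ext (Submonoid.powers f) (RingHom.ext fun a => ?_)
    show θ (ψ (g a)) = g a
    rw [← AlgHom.comp_apply ψ g, hψ, ← AlgHom.comp_apply, hθ]
  exact ⟨RingEquiv.ofRingHom ψ.toRingHom θ.toRingHom (congrArg AlgHom.toRingHom h1) h2,
    fun a => DFunLike.congr_fun hψ a⟩

include hneg hp hm in
theorem isOpenImmersion_cellMap [Algebra.FiniteType k A] :
    IsOpenImmersion (Spec.map (CommRingCat.ofHom (cellMap (k := k) Jp Jm).toRingHom)) := by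
  obtain ⟨N, ⟨D⟩⟩ := exists_weightMatrix lam
  obtain ⟨e, he⟩ := exists_cellEquiv hneg hp hm D
  have h : CommRingCat.ofHom (cellMap (k := k) Jp Jm).toRingHom =
      CommRingCat.ofHom (algebraMap A (Localization.Away (cellFun D.wt (D.mat (AlgHom.id k A))))) ≫
        e.toCommRingCatIso.hom := CommRingCat.hom_ext (RingHom.ext fun a => (he a).symm)
  rw [h, Spec.map_comp]
  haveI := IsOpenImmersion.of_isLocalization (S := Localization.Away (cellFun D.wt (D.mat (AlgHom.id k A))))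
    (cellFun D.wt (D.mat (AlgHom.id k A)))
  infer_instance

end

end Groth.Agent.DynCell
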