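import Groth.Agent.DynCell.Cell
import Groth.Agent.DynLib.Levi
import Groth.Agent.GrpSchLib.FieldTop
import Groth.Agent.GrpFieldLib.HomogTop

/-! Connectedness of the subgroups attached to a one-parameter subgroup. -/

set_option backward.isDefEq.respectTransparency false
set_option backward.isDefEq.respectTransparency.types false

universe u

open TensorProduct WithConv AlgebraicGeometry CategoryTheory
open scoped Groth.Agent.DynLib

namespace Groth.Agent.DynCell

variable {k : Type u} [Field k] {A : Type u} [CommRing A] [HopfAlgebra k A] {lam lamNeg : A →ₐc[k] LaurentPolynomial k}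

theorem subsingleton_components (A : Type u) [CommRing A] [HopfAlgebra k A] [Algebra.FiniteType k A]
    (hA : ∀ e : A, IsIdempotentElem e → e = 0 ∨ e = 1) : (nilradical A).IsPrime := by
  haveI : IsNoetherianRing A := Algebra.FiniteType.isNoetherianRing k A
  haveI hne : Nontrivial A := RingHom.domain_nontrivial (Bialgebra.counitAlgHom k A).toRingHom
  let G := (Spec (CommRingCat.of A)).asOver (Spec (CommRingCat.of k))
  have hu : GrpSchLib.UniComp (PrimeSpectrum A) := GrpSchLib.uniComp (G := G)
  haveI : PreconnectedSpace (PrimeSpectrum A) := by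
    refine preconnectedSpace_iff_clopen.mpr fun s hs => ?_
    obtain ⟨e, he, rfl⟩ := PrimeSpectrum.exists_idempotent_basicOpen_eq_of_isClopen hs
    rcases hA e he with rfl | rfl <;> simp
  have hsame : ∀ p q : PrimeSpectrum A, p.asIdeal ∈ minimalPrimes A → q.asIdeal ∈ minimalPrimes A → p = q := by
    intro p q hp hq
    by_contra hne
    have hmax : ∀ c : PrimeSpectrum A, c.asIdeal ∈ minimalPrimes A → GrpSchLib.IsMaxPt c := fun c hc d hd => by
      have hle : d.asIdeal ≤ c.asIdeal := (PrimeSpectrum.le_iff_specializes d c).mpr hd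
      exact PrimeSpectrum.ext (le_antisymm hle (hc.2 ⟨d.2, bot_le⟩ hle))
    let T := (minimalPrimes.finite_of_isNoetherianRing A).toFinset.erase p.asIdeal
    let C : Set (PrimeSpectrum A) := ⋃ c ∈ T, PrimeSpectrum.zeroLocus (c : Set A)
    have hC : IsClosed C := isClosed_biUnion_finset fun c _ => PrimeSpectrum.isClosed_zeroLocus _
    have hcompl : Cᶜ = PrimeSpectrum.zeroLocus (p.asIdeal : Set A) := by
      ext x
      constructor
      · intro hx
        obtain ⟨c, hc, hcx⟩ := Ideal.exists_minimalPrimes_le (bot_le : (⊥ : Ideal A) ≤ x.asIdeal)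
        by_cases hcp : c = p.asIdeal
        · exact hcp ▸ hcx
        · exact absurd (Set.mem_iUnion₂.mpr ⟨c, Finset.mem_erase.mpr ⟨hcp, by simpa using hc⟩, hcx⟩) hx
      · intro hx hxC
        obtain ⟨c, hc, hcx⟩ := Set.mem_iUnion₂.mp hxC
        obtain ⟨hcp, hc'⟩ := Finset.mem_erase.mp hc
        rw [Set.Finite.mem_toFinset] at hc'
        have h1 : p ⤳ x := (PrimeSpectrum.le_iff_specializes p x).mp hx
        let c' : PrimeSpectrum A := ⟨c, hc'.1.1⟩
        have h2 : c' ⤳ x := (PrimeSpectrum.le_iff_specializes c' x).mp hcx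
        exact hcp (congrArg PrimeSpectrum.asIdeal ((hmax c' hc').eq hu (hmax p hp) h2 h1))
    have hclopen : IsClopen C := ⟨hC, isClosed_compl_iff.mp (hcompl ▸ PrimeSpectrum.isClosed_zeroLocus _)⟩
    rcases isClopen_iff.mp hclopen with h | h
    · have : q ∈ C := Set.mem_iUnion₂.mpr ⟨q.asIdeal, Finset.mem_erase.mpr
        ⟨fun e => hne (PrimeSpectrum.ext e.symm), by simpa using hq⟩, fun x hx => hx⟩
      rw [h] at this
      exact this
    · have : p ∈ Cᶜ := hcompl ▸ (fun x hx => hx : p ∈ PrimeSpectrum.zeroLocus (p.asIdeal : Set A))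
      rw [h] at this
      simp at this
  obtain ⟨p, hp⟩ := Ideal.nonempty_minimalPrimes (I := (⊥ : Ideal A)) bot_ne_top
  have : nilradical A = p := by
    refine le_antisymm (haveI := hp.1.1; nilradical_le_prime p) ?_
    rw [nilradical_eq_sInf]
    refine le_sInf fun P hP => ?_
    haveI : P.IsPrime := hP
    obtain ⟨q, hq, hqP⟩ := Ideal.exists_minimalPrimes_le (bot_le : (⊥ : Ideal A) ≤ P)
    rw [show p = q from congrArg PrimeSpectrum.asIdeal (hsame ⟨p, hp.1.1⟩ ⟨q, hq.1.1⟩ hp hq)]
    exact hqP
  rw [this]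
  exact hp.1.1

theorem idempotent_polynomial {R : Type u} [CommRing R] {f : Polynomial R} (hf : IsIdempotentElem f) :
    ∃ r : R, f = Polynomial.C r := by
  have hev : ∀ x : R, IsIdempotentElem (f.eval x) := fun x => hf.map (Polynomial.evalRingHom x)
  refine ⟨f.eval 0, ?_⟩
  have hnil : IsNilpotent (f - Polynomial.C (f.eval 0)) := by
    rw [Polynomial.isNilpotent_iff]
    intro i
    rw [nilpotent_iff_mem_prime]
    intro P hP
    let φ := Ideal.Quotient.mk P
    have h1 : IsIdempotentElem (f.map φ) := hf.map (Polynomial.mapRingHom φ)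
    have h2 : (f - Polynomial.C (f.eval 0)).map φ = 0 := by
      rcases IsIdempotentElem.iff_eq_zero_or_one.mp h1 with h | h
      · rw [Polynomial.map_sub, Polynomial.map_C, h, zero_sub, neg_eq_zero, Polynomial.C_eq_zero,
          ← Polynomial.eval_zero (x := φ 0), ← h, Polynomial.eval_map_apply]
      · rw [Polynomial.map_sub, Polynomial.map_C, h, sub_eq_zero, ← map_one Polynomial.C]
        congr 1
        rw [← Polynomial.eval_one (x := φ 0), ← h, Polynomial.eval_map_apply]
    have := congrArg (fun g => Polynomial.coeff g i) h2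
    rw [← Ideal.Quotient.eq_zero_iff_mem]
    simpa [φ, Polynomial.coeff_C, apply_ite (Ideal.Quotient.mk P)] using this
  exact eq_of_isNilpotent_sub_of_isIdempotentElem hf ((hev 0).map Polynomial.C) hnil

theorem idempotent_limIsOne [Algebra.FiniteType k A] (Ju : Ideal A)
    (hu : Dyn.Represents k A Ju (fun R _ _ g => Dyn.LimIsOne k A lam R g)) {e : A ⧸ Ju}
    (he : IsIdempotentElem e) : e = 0 ∨ e = 1 := by
  obtain ⟨N, ⟨D⟩⟩ := exists_weightMatrix lam
  let R := A ⧸ Ju
  let u : A →ₐ[k] R := Ideal.Quotient.mkₐ k Ju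
  have hu0 := (hu R u).mp fun a ha => Ideal.Quotient.eq_zero_iff_mem.mpr ha
  obtain ⟨F, hF, hF0⟩ := hu0
  let ev1 : Polynomial R →ₐ[k] R := (Polynomial.aeval (R := R) (1 : R)).restrictScalars k
  have hF1 : ev1.comp F = u := by
    refine D.hom_ext ?_
    ext i j
    show (Polynomial.aeval (1 : R)) (F (D.M i j)) = u (D.M i j)
    have h1 := DFunLike.congr_fun hF (D.M i j)
    rw [D.conjOrbit_apply] at h1
    have h2 : (DynLib.ev1 k R) (Polynomial.toLaurent (F (D.M i j))) = (Polynomial.aeval (1 : R)) (F (D.M i j)) := by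
      have : (DynLib.ev1 k R).comp (DynLib.toL k R) = ev1 := by
        refine DynLib.polyHom_ext ?_ ?_
        · intro r
          show DynLib.ev1 k R (Polynomial.toLaurent (Polynomial.C r)) = Polynomial.aeval (1 : R) (Polynomial.C r)
          rw [Polynomial.toLaurent_C, ← LaurentPolynomial.single_eq_C, DynLib.ev1_single, Polynomial.aeval_C,
            Algebra.algebraMap_self_apply]
        · show DynLib.ev1 k R (Polynomial.toLaurent Polynomial.X) = Polynomial.aeval (1 : R) Polynomial.X
          rw [Polynomial.toLaurent_X, show (LaurentPolynomial.T 1 : LaurentPolynomial R) = AddMonoidAlgebra.single 1 1 from rfl,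
            DynLib.ev1_single, Polynomial.aeval_X]
      exact DFunLike.congr_fun this _
    rw [← h2, show Polynomial.toLaurent (F (D.M i j)) = _ from h1, DynLib.ev1_single]
  have hFJ : ∀ a ∈ Ju, F a = 0 := by
    refine (hu (Polynomial R) F).mpr ((D.limIsOne_iff F).mpr fun i j hij => ?_)
    have h1 := DFunLike.congr_fun hF (D.M i j)
    rw [D.conjOrbit_apply, (D.limIsOne_iff u).mp ((hu R u).mp fun a ha => Ideal.Quotient.eq_zero_iff_mem.mpr ha) i j hij] at h1
    apply Polynomial.toLaurent_injective
    refine (show Polynomial.toLaurent (F (D.M i j)) = _ from h1).trans ?_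
    rw [Matrix.one_apply, Matrix.one_apply, apply_ite Polynomial.toLaurent, map_one, map_zero]
    split
    · next h =>
      subst h
      rw [sub_self]
      rfl
    · exact AddMonoidAlgebra.single_zero _
  obtain ⟨a, rfl⟩ := Ideal.Quotient.mk_surjective e
  have hFa : IsIdempotentElem (F a) := by
    have h := hFJ (a * a - a) (Ideal.Quotient.eq_zero_iff_mem.mp (by rw [map_sub, map_mul, he.eq, sub_self]))
    rwa [map_sub, map_mul, sub_eq_zero] at h
  obtain ⟨r, hr⟩ := idempotent_polynomial hFa
  have h0 := DFunLike.congr_fun hF0 a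
  have h1 := DFunLike.congr_fun hF1 a
  simp only [AlgHom.comp_apply, AlgHom.coe_restrictScalars', ev1, hr, Polynomial.aeval_C, Algebra.algebraMap_self_apply] at h0 h1
  have hc : IsIdempotentElem (Bialgebra.counitAlgHom k A a) ∨ Subsingleton R := by
    by_cases hR : Subsingleton R
    · exact Or.inr hR
    · haveI := not_subsingleton_iff_nontrivial.mp hR
      left
      apply (algebraMap k R).injective
      rw [map_mul]
      show (Algebra.ofId k R) _ * (Algebra.ofId k R) _ = (Algebra.ofId k R) _
      rw [← h0, h1]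
      exact he
  rcases hc with hc | hR
  · rcases IsIdempotentElem.iff_eq_zero_or_one.mp hc with h | h
    · left
      rw [show Ideal.Quotient.mk Ju a = u a from rfl, ← h1, h0, h, map_zero]
    · right
      rw [show Ideal.Quotient.mk Ju a = u a from rfl, ← h1, h0, h, map_one]
  · exact Or.inl (Subsingleton.elim (α := R) _ _)

theorem exists_lamNeg (lam : A →ₐc[k] LaurentPolynomial k) :
    ∃ lamNeg : A →ₐc[k] LaurentPolynomial k,
      (lamNeg : A →ₐ[k] LaurentPolynomial k) = Dyn.negParam k A lam := by
  let g : LaurentPolynomial k →ₐc[k] LaurentPolynomial k :=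
    AddMonoidAlgebra.mapDomainBialgHom k (-AddMonoidHom.id ℤ)
  refine ⟨g.comp lam, ?_⟩
  have e : (g : LaurentPolynomial k →ₐ[k] LaurentPolynomial k) = (LaurentPolynomial.invert (R := k)).toAlgHom := by
    refine AddMonoidAlgebra.algHom_ext (fun n => ?_) (Subsingleton.elim _ _)
    show g (AddMonoidAlgebra.single n 1) = LaurentPolynomial.invert (AddMonoidAlgebra.single n 1)
    refine Eq.trans ?_ (LaurentPolynomial.invert_T n).symm
    exact AddMonoidAlgebra.mapDomain_single
  rw [Dyn.negParam, ← e]
  rfl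

theorem idempotent_limExists [Algebra.FiniteType k A] (hA : ∀ e : A, IsIdempotentElem e → e = 0 ∨ e = 1)
    (Jp : Ideal A) [Jp.IsHopfIdeal k]
    (hp : Dyn.Represents k A Jp (fun R _ _ g => Dyn.LimExists k A lam R g)) {e : A ⧸ Jp}
    (he : IsIdempotentElem e) : e = 0 ∨ e = 1 := by
  haveI hprime := subsingleton_components (k := k) A hA
  obtain ⟨N, ⟨D⟩⟩ := exists_weightMatrix lam
  obtain ⟨lamNeg, hneg⟩ := exists_lamNeg lam
  let Jm := DynLib.idealU lamNeg
  have hm := DynLib.represents_idealU lamNeg
  obtain ⟨θ, hθ⟩ := exists_cellEquiv hneg hp hm D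
  set f := cellFun D.wt (D.mat (AlgHom.id k A))
  let ε : A →ₐ[k] k := Bialgebra.counitAlgHom k A
  have hε1 : D.mat ε = 1 := by
    ext i j
    show Coalgebra.counit (R := k) (D.M i j) = _
    rw [D.isComod.counit, Matrix.one_apply]
  have hf : ¬ IsNilpotent f := fun h => by
    have h' := h.map ε
    rw [show ε f = cellFun D.wt (D.mat ε) from map_cellFun D.wt ε.toRingHom _, hε1] at h'
    refine h'.not_isUnit ?_
    rw [← Matrix.one_mul (1 : Matrix (Fin N) (Fin N) k)]
    exact isUnit_cellFun D.wt (fun i j _ => rfl)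
      (fun i j hij => Matrix.one_apply_ne fun e => absurd (e ▸ hij) (lt_irrefl _)) (by simp)
  let ι : (A ⧸ Jp) →ₐ[k] (A ⧸ Jm) ⊗[k] (A ⧸ Jp) := Algebra.TensorProduct.includeRight
  let pt : (A ⧸ Jm) →ₐ[k] k := Ideal.Quotient.liftₐ Jm ε ((kills_Jm_iff hneg hm D ε).mpr
    (fun i j _ => by rw [hε1]))
  let r : (A ⧸ Jm) ⊗[k] (A ⧸ Jp) →ₐ[k] (A ⧸ Jp) :=
    Algebra.TensorProduct.productMap ((Algebra.ofId k (A ⧸ Jp)).comp pt) (AlgHom.id k (A ⧸ Jp))
  have hr : ∀ z, r (ι z) = z := fun z => by simp [r, ι]
  let x := θ.symm (ι e)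
  have hx : IsIdempotentElem x := (he.map ι).map θ.symm
  obtain ⟨⟨a, n⟩, han⟩ := IsLocalization.surj (Submonoid.powers f) x
  have h0 : algebraMap A (Localization.Away f) (a * (a - n)) = algebraMap A (Localization.Away f) 0 := by
    rw [map_mul, map_sub, ← han, map_zero]
    calc _ = (x * x - x) * algebraMap A (Localization.Away f) n ^ 2 := by ring
      _ = 0 := by rw [hx.eq, sub_self, zero_mul]
  obtain ⟨⟨c, hc⟩, hc'⟩ := IsLocalization.exists_of_eq (M := Submonoid.powers f) h0
  have hcn : c ∉ nilradical A := by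
    obtain ⟨m, rfl⟩ := hc
    exact fun h => hf (IsNilpotent.of_pow (mem_nilradical.mp h))
  simp only [mul_zero] at hc'
  have hmem : c * (a * (a - n)) ∈ nilradical A := by rw [hc']; exact Submodule.zero_mem _
  have hu := IsLocalization.map_units (Localization.Away f) n
  have key : x = 0 ∨ x = 1 := by
    rcases hprime.mem_or_mem hmem with h | h
    · exact absurd h hcn
    rcases hprime.mem_or_mem h with h | h
    · left
      refine hx.eq_zero_of_isNilpotent ?_
      have h2 := (mem_nilradical.mp h).map (algebraMap A (Localization.Away f))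
      rw [← han] at h2
      have h3 := Commute.isNilpotent_mul_right (Commute.all _ ↑hu.unit⁻¹) h2
      rwa [mul_assoc, hu.mul_val_inv, mul_one] at h3
    · right
      have h2 := (mem_nilradical.mp h).map (algebraMap A (Localization.Away f))
      rw [map_sub, ← han, ← sub_one_mul] at h2
      have h3 := Commute.isNilpotent_mul_right (Commute.all _ ↑hu.unit⁻¹) h2
      rw [mul_assoc, hu.mul_val_inv, mul_one] at h3
      exact (sub_eq_zero.mp (hx.one_sub.eq_zero_of_isNilpotent (by simpa using h3.neg))).symm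
  rw [← hr e]
  rcases key with h | h
  · left
    rw [← θ.apply_symm_apply (ι e), show θ.symm (ι e) = 0 from h, map_zero, map_zero]
  · right
    rw [← θ.apply_symm_apply (ι e), show θ.symm (ι e) = 1 from h, map_one, map_one]

end Groth.Agent.DynCell
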