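import Mathlib.LinearAlgebra.Matrix.Block
import Mathlib.LinearAlgebra.Matrix.NonsingularInverse

/-! Block LU decomposition with respect to integral weights. -/

universe u

open Matrix

namespace Groth.Agent.DynCell

variable {ι : Type} [Fintype ι] [DecidableEq ι] {R : Type u} [CommRing R] (w : ι → ℤ)

/-- Block lower triangular for decreasing weights. -/
def IsUp (p : Matrix ι ι R) : Prop := ∀ i j, w i < w j → p i j = 0

/-- Strictly lowering weights plus identity. -/
def IsUniLow (v : Matrix ι ι R) : Prop := ∀ i j, w j ≤ w i → v i j = (1 : Matrix ι ι R) i j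

variable {w}

omit [DecidableEq ι] in
omit [Fintype ι] in
theorem isUp_iff {p : Matrix ι ι R} : IsUp w p ↔ p.BlockTriangular fun i => - w i :=
  ⟨fun h i j hij => h i j (neg_lt_neg_iff.mp hij), fun h i j hij => h (neg_lt_neg hij)⟩

omit [Fintype ι] in
theorem IsUniLow.blockTriangular {v : Matrix ι ι R} (h : IsUniLow w v) : v.BlockTriangular w :=
  fun i j hij => (h i j hij.le).trans (Matrix.one_apply_ne fun e => absurd (e ▸ hij) (lt_irrefl _))

theorem IsUniLow.det_eq_one {v : Matrix ι ι R} (h : IsUniLow w v) : v.det = 1 := by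
  rw [h.blockTriangular.det]
  refine Finset.prod_eq_one fun a _ => ?_
  have : v.toSquareBlock w a = 1 := by
    ext i j
    rw [Matrix.toSquareBlock_def, Matrix.of_apply, h i j (by rw [i.2, j.2])]
    simp [Matrix.one_apply, Subtype.ext_iff]
  rw [this, Matrix.det_one]

theorem IsUniLow.inv {v : Matrix ι ι R} (h : IsUniLow w v) : IsUniLow w v⁻¹ := by
  have hd : IsUnit v.det := h.det_eq_one ▸ isUnit_one
  letI := v.invertibleOfIsUnitDet hd
  have hb := blockTriangular_inv_of_blockTriangular h.blockTriangular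
  intro i j hij
  rcases hij.lt_or_eq with hlt | he
  · rw [hb hlt, Matrix.one_apply_ne fun e => absurd (e ▸ hlt) (lt_irrefl _)]
  · have h1 : (v⁻¹ * v) i j = (1 : Matrix ι ι R) i j := by rw [Matrix.nonsing_inv_mul v hd]
    rw [Matrix.mul_apply, Finset.sum_eq_single j] at h1
    · rwa [h j j le_rfl, Matrix.one_apply_eq, mul_one] at h1
    · intro l _ hlj
      by_cases h2 : w l < w i
      · rw [hb h2, zero_mul]
      · rw [h l j (by omega), Matrix.one_apply_ne hlj, mul_zero]
    · simp

theorem IsUp.inv {p : Matrix ι ι R} (h : IsUp w p) (hd : IsUnit p.det) : IsUp w p⁻¹ := by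
  letI := p.invertibleOfIsUnitDet hd
  exact isUp_iff.mpr (blockTriangular_inv_of_blockTriangular (isUp_iff.mp h))

omit [DecidableEq ι] in
theorem IsUp.mul {p q : Matrix ι ι R} (h : IsUp w p) (h' : IsUp w q) : IsUp w (p * q) :=
  isUp_iff.mpr ((isUp_iff.mp h).mul (isUp_iff.mp h'))

theorem IsUniLow.mul {v v' : Matrix ι ι R} (h : IsUniLow w v) (h' : IsUniLow w v') : IsUniLow w (v * v') := by
  intro i j hij
  rw [Matrix.mul_apply, Finset.sum_eq_single i]
  · rw [h i i le_rfl, Matrix.one_apply_eq, one_mul, h' i j hij]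
  · intro l _ hli
    by_cases h2 : w l ≤ w i
    · rw [h i l h2, Matrix.one_apply_ne (Ne.symm hli), zero_mul]
    · rw [h' l j (by omega), Matrix.one_apply_ne (by rintro rfl; exact h2 hij), mul_zero]
  · simp

theorem eq_one_of_isUp_isUniLow {x : Matrix ι ι R} (h : IsUp w x) (h' : IsUniLow w x) : x = 1 := by
  ext i j
  by_cases hij : w j ≤ w i
  · exact h' i j hij
  · rw [h i j (by omega), Matrix.one_apply_ne (by rintro rfl; exact hij le_rfl)]

theorem lu_unique {v v' p p' : Matrix ι ι R} (hv : IsUniLow w v) (hv' : IsUniLow w v') (hp : IsUp w p)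
    (hp' : IsUp w p') (hd : IsUnit p.det) (h : v * p = v' * p') : v = v' ∧ p = p' := by
  have hdv : IsUnit v'.det := hv'.det_eq_one ▸ isUnit_one
  have h1 : v'⁻¹ * v = p' * p⁻¹ := by
    calc v'⁻¹ * v = v'⁻¹ * (v * p) * p⁻¹ := by rw [Matrix.mul_assoc, Matrix.mul_assoc, Matrix.mul_nonsing_inv p hd, Matrix.mul_one]
      _ = _ := by rw [h, ← Matrix.mul_assoc v'⁻¹, Matrix.nonsing_inv_mul v' hdv, Matrix.one_mul]
  have h2 : v'⁻¹ * v = 1 := eq_one_of_isUp_isUniLow (h1 ▸ hp'.mul (hp.inv hd)) (hv'.inv.mul hv)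
  have h3 : v = v' := by
    rw [← Matrix.one_mul v, ← Matrix.mul_nonsing_inv v' hdv, Matrix.mul_assoc, h2, Matrix.mul_one]
  refine ⟨h3, ?_⟩
  subst h3
  have h4 := congrArg (v⁻¹ * ·) h
  simp only [← Matrix.mul_assoc, Matrix.nonsing_inv_mul v hdv, Matrix.one_mul] at h4
  exact h4

variable (w)

/-- The principal minor of the weights above `n`. -/
noncomputable def topMinor (g : Matrix ι ι R) (n : ℤ) : R :=
  (g.submatrix (Subtype.val : {i // n < w i} → ι) Subtype.val).det

/-- The product of the minors defining the cell. -/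
noncomputable def cellFun (g : Matrix ι ι R) : R := ∏ i, topMinor w g (w i)

theorem map_topMinor {S : Type u} [CommRing S] (f : R →+* S) (g : Matrix ι ι R) (n : ℤ) :
    f (topMinor w g n) = topMinor w (g.map f) n := by
  rw [topMinor, RingHom.map_det]
  rfl

theorem map_cellFun {S : Type u} [CommRing S] (f : R →+* S) (g : Matrix ι ι R) :
    f (cellFun w g) = cellFun w (g.map f) := by
  simp only [cellFun, map_prod, map_topMinor]

theorem exists_lu {g : Matrix ι ι R} (hg : IsUnit (cellFun w g)) :
    ∃ v p : Matrix ι ι R, IsUniLow w v ∧ IsUp w p ∧ v * p = g := by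
  have hm : ∀ i, IsUnit (topMinor w g (w i)) := fun i => by
    rw [cellFun] at hg
    exact (IsUnit.prod_iff.mp hg) i (Finset.mem_univ _)
  let B : ∀ i, Matrix {l // w i < w l} {l // w i < w l} R := fun i => g.submatrix Subtype.val Subtype.val
  let c : ∀ i, {l // w i < w l} → R := fun i => Matrix.vecMul (fun l => - g i l.1) (B i)⁻¹
  let v : Matrix ι ι R := Matrix.of fun i l => (1 : Matrix ι ι R) i l + if h : w i < w l then c i ⟨l, h⟩ else 0
  have hv : IsUniLow w v := fun i j hij => by simp [v, not_lt.mpr hij]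
  have hp : IsUp w (v * g) := by
    intro i j hij
    rw [Matrix.mul_apply]
    simp only [v, Matrix.of_apply, add_mul, Finset.sum_add_distrib, Matrix.one_apply, ite_mul, one_mul, zero_mul,
      Finset.sum_ite_eq, Finset.mem_univ, if_true]
    have h2 : ∑ l, (if h : w i < w l then c i ⟨l, h⟩ else 0) * g l j = Matrix.vecMul (c i) (B i) ⟨j, hij⟩ := by
      rw [← Finset.sum_filter_add_sum_filter_not Finset.univ (fun l => w i < w l),
        Finset.sum_eq_zero (s := Finset.univ.filter fun l => ¬ w i < w l) (fun l hl => by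
          rw [dif_neg (Finset.mem_filter.mp hl).2, zero_mul]), add_zero]
      rw [Matrix.vecMul, dotProduct]
      refine (Finset.sum_subtype _ (fun l => by simp) _).trans (Finset.sum_congr rfl fun l _ => ?_)
      simp [B, l.2]
    rw [h2]
    show g i j + Matrix.vecMul (Matrix.vecMul (fun l => - g i l.1) (B i)⁻¹) (B i) ⟨j, hij⟩ = 0
    rw [Matrix.vecMul_vecMul, Matrix.nonsing_inv_mul (B i) (hm i), Matrix.vecMul_one]
    simp
  exact ⟨v⁻¹, v * g, hv.inv, hp, by
    rw [← Matrix.mul_assoc, Matrix.nonsing_inv_mul v (hv.det_eq_one ▸ isUnit_one), Matrix.one_mul]⟩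

theorem isUnit_cellFun {v p : Matrix ι ι R} (hv : IsUniLow w v) (hp : IsUp w p) (hd : IsUnit p.det) :
    IsUnit (cellFun w (v * p)) := by
  rw [cellFun, IsUnit.prod_iff]
  intro i _
  set n := w i
  let e : {l // n < w l} → ι := Subtype.val
  have hconf : ∀ (a b : Matrix ι ι R), (∀ r l s, n < w r → n < w s → ¬ n < w l → a r l * b l s = 0) →
      (a * b).submatrix e e = a.submatrix e e * b.submatrix e e := by
    intro a b hab
    ext r s
    simp only [Matrix.submatrix_apply, Matrix.mul_apply]
    rw [← Finset.sum_filter_add_sum_filter_not Finset.univ (fun l => n < w l),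
      Finset.sum_eq_zero (s := Finset.univ.filter fun l => ¬ n < w l) (fun l hl =>
        hab _ _ _ r.2 s.2 (Finset.mem_filter.mp hl).2), add_zero]
    exact Finset.sum_subtype _ (fun l => by simp) _
  show IsUnit ((v * p).submatrix e e).det
  rw [hconf v p (fun r l s _ hs hl => by rw [hp l s (by omega), mul_zero]), Matrix.det_mul]
  have h1 : IsUniLow (fun l : {l // n < w l} => w l.1) (v.submatrix e e) := fun r s hrs => by
    rw [Matrix.submatrix_apply, hv _ _ hrs]
    simp [e, Matrix.one_apply, Subtype.ext_iff]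
  rw [h1.det_eq_one, one_mul]
  have h2 : (p⁻¹).submatrix e e * p.submatrix e e = 1 := by
    rw [← hconf _ _ (fun r l s _ hs hl => by rw [hp l s (by omega), mul_zero]), Matrix.nonsing_inv_mul p hd]
    exact Matrix.submatrix_one e Subtype.val_injective
  have h3 := congrArg Matrix.det h2
  rw [Matrix.det_mul, Matrix.det_one, mul_comm] at h3
  exact IsUnit.of_mul_eq_one _ h3

end Groth.Agent.DynCell
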