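import Mathlib.RingTheory.MvPolynomial.Basic
import Mathlib.RingTheory.MvPolynomial.WeightedHomogeneous
import Mathlib.LinearAlgebra.Matrix.NonsingularInverse
import Groth.Agent.DynCell.Tri

/-! Matrices acting by right translation on polynomial functions of matrices. -/

universe u

open MvPolynomial

namespace Groth.Agent.DynCell

variable {ι : Type} [Fintype ι] [DecidableEq ι] {R : Type u} [CommRing R]

/-- Right translation. -/
noncomputable def act (Q : Matrix ι ι R) : MvPolynomial (ι × ι) R →ₐ[R] MvPolynomial (ι × ι) R :=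
  aeval fun x => ∑ j, X (x.1, j) * C (Q j x.2)

theorem act_X (Q : Matrix ι ι R) (x : ι × ι) : act Q (X x) = ∑ j, X (x.1, j) * C (Q j x.2) := aeval_X _ _

theorem act_act (P Q : Matrix ι ι R) (f : MvPolynomial (ι × ι) R) : act P (act Q f) = act (P * Q) f := by
  have h : (act P).comp (act Q) = act (P * Q) := by
    refine MvPolynomial.algHom_ext fun x => ?_
    rw [AlgHom.comp_apply, act_X, map_sum, act_X]
    simp only [map_mul, act_X, Finset.sum_mul, Matrix.mul_apply, map_sum, Finset.mul_sum]
    rw [Finset.sum_comm]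
    refine Finset.sum_congr rfl fun j _ => Finset.sum_congr rfl fun l _ => ?_
    rw [← MvPolynomial.algebraMap_eq, AlgHom.commutes, MvPolynomial.algebraMap_eq]
    ring
  exact DFunLike.congr_fun h f

theorem act_one (f : MvPolynomial (ι × ι) R) : act (1 : Matrix ι ι R) f = f := by
  have h : act (1 : Matrix ι ι R) = AlgHom.id R _ := by
    refine MvPolynomial.algHom_ext fun x => ?_
    rw [act_X]
    simp [Matrix.one_apply, apply_ite (C (R := R) (σ := ι × ι))]
  rw [h]; rfl

theorem act_injective {Q : Matrix ι ι R} (hQ : IsUnit Q.det) : Function.Injective (act Q) := fun f g h => by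
  rw [← act_one f, ← act_one g, ← Matrix.nonsing_inv_mul Q hQ, ← act_act, ← act_act, h]

theorem map_act {S : Type u} [CommRing S] (φ : R →+* S) (Q : Matrix ι ι R) (f : MvPolynomial (ι × ι) R) :
    MvPolynomial.map φ (act Q f) = act (Q.map φ) (MvPolynomial.map φ f) := by
  induction f using MvPolynomial.induction_on with
  | C a => simp [act]
  | add p q hp hq => simp only [map_add, hp, hq]
  | mul_X p x hp => simp only [map_mul, map_X, hp, act_X, map_sum, map_C, Matrix.map_apply]

theorem eval_one_act (Q : Matrix ι ι R) (f : MvPolynomial (ι × ι) R) :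
    aeval (fun x : ι × ι => (1 : Matrix ι ι R) x.1 x.2) (act Q f) = aeval (fun x : ι × ι => Q x.1 x.2) f := by
  have h : (aeval fun x : ι × ι => (1 : Matrix ι ι R) x.1 x.2).comp (act Q) =
      aeval fun x : ι × ι => Q x.1 x.2 := by
    refine MvPolynomial.algHom_ext fun x => ?_
    rw [AlgHom.comp_apply, act_X, map_sum, aeval_X]
    simp [Matrix.one_apply]
  exact DFunLike.congr_fun h f

theorem totalDegree_act (Q : Matrix ι ι R) (f : MvPolynomial (ι × ι) R) :
    (act Q f).totalDegree ≤ f.totalDegree := by
  have hX : ∀ x, (act Q (X x)).totalDegree ≤ 1 := fun x => by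
    rw [act_X]
    refine MvPolynomial.totalDegree_finsetSum_le fun j _ => (totalDegree_mul _ _).trans ?_
    rw [totalDegree_C, add_zero]
    exact (totalDegree_monomial_le _ _).trans (by simp [Function.comp_def])
  conv_lhs => rw [f.as_sum, map_sum]
  refine MvPolynomial.totalDegree_finsetSum_le fun d hd => ?_
  have hmon : monomial d (f.coeff d) = C (f.coeff d) * ∏ x ∈ d.support, X x ^ d x := by
    rw [monomial_eq]; rfl
  rw [hmon, map_mul, map_prod]
  refine (totalDegree_mul _ _).trans ?_
  rw [show act Q (C (f.coeff d)) = C (f.coeff d) from AlgHom.commutes _ _, totalDegree_C, zero_add]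
  refine (totalDegree_finset_prod _ _).trans ((Finset.sum_le_sum fun x _ => ?_).trans (le_totalDegree hd))
  rw [map_pow]
  exact (totalDegree_pow _ _).trans ((Nat.mul_le_mul_left _ (hX x)).trans (by rw [mul_one]))

/-! ### Weights -/

variable (w : ι → ℤ)

/-- The weight of a monomial: columns are weighted. -/
noncomputable def wd : (ι × ι →₀ ℕ) →+ ℤ := Finsupp.weight fun x => w x.2

theorem wd_single (x : ι × ι) (e : ℕ) : wd w (Finsupp.single x e) = e * w x.2 := by
  simp [wd, Finsupp.weight_apply]

variable (R)

/-- Polynomials of weights at least `n`. -/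
noncomputable def Ge (n : ℤ) : Submodule R (MvPolynomial (ι × ι) R) := restrictSupport R {d | n ≤ wd w d}

/-- Polynomials of weights at most `n`. -/
noncomputable def Le (n : ℤ) : Submodule R (MvPolynomial (ι × ι) R) := restrictSupport R {d | wd w d ≤ n}

/-- Polynomials of weights less than `n`. -/
noncomputable def Lt (n : ℤ) : Submodule R (MvPolynomial (ι × ι) R) := restrictSupport R {d | wd w d < n}

variable {R w}

theorem mem_supp_iff {s : Set (ι × ι →₀ ℕ)} {f : MvPolynomial (ι × ι) R} :
    f ∈ restrictSupport R s ↔ ∀ d, f.coeff d ≠ 0 → d ∈ s := by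
  rw [mem_restrictSupport_iff]
  exact ⟨fun h d hd => h (mem_support_iff.mpr hd), fun h d hd => h d (mem_support_iff.mp hd)⟩

theorem mono_mem {s : Set (ι × ι →₀ ℕ)} {d : ι × ι →₀ ℕ} {c : R} (h : d ∈ s) :
    monomial d c ∈ restrictSupport R s := (MvPolynomial.monomial_mem_restrictSupport R).mpr (Or.inl h)

theorem mul_mem_supp {s t r : Set (ι × ι →₀ ℕ)} {f g : MvPolynomial (ι × ι) R}
    (hf : f ∈ restrictSupport R s) (hg : g ∈ restrictSupport R t) (h : ∀ a ∈ s, ∀ b ∈ t, a + b ∈ r) :
    f * g ∈ restrictSupport R r := by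
  classical
  rw [mem_restrictSupport_iff] at hf hg ⊢
  intro d hd
  obtain ⟨a, ha, b, hb, rfl⟩ := Finset.mem_add.mp (support_mul f g hd)
  exact h a (hf ha) b (hg hb)

theorem act_monomial_mem_Ge {Q : Matrix ι ι R} (hQ : IsUp w Q) (d : ι × ι →₀ ℕ) :
    ∀ c, act Q (monomial d c) ∈ Ge R w (wd w d) := by
  induction d using Finsupp.induction with
  | zero =>
      intro c
      rw [show monomial 0 c = C c from rfl, show act Q (C c) = C c from AlgHom.commutes _ _]
      exact mono_mem (by simp)
  | @single_add x e d _ _ ih =>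
      intro c
      have hX : act Q (X x) ∈ Ge R w (w x.2) := by
        rw [act_X]
        refine Submodule.sum_mem _ fun j _ => ?_
        by_cases hj : w j < w x.2
        · rw [hQ j x.2 hj, map_zero, mul_zero]; exact Submodule.zero_mem _
        · rw [mul_comm, C_mul_X_eq_monomial]
          exact mono_mem ( (by simp [wd_single]; omega))
      have hpow : ∀ e : ℕ, act Q (X x) ^ e ∈ Ge R w (e * w x.2) := by
        intro e
        induction e with
        | zero =>
          rw [pow_zero, show (1 : MvPolynomial (ι × ι) R) = monomial 0 1 from rfl]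
          exact mono_mem ( (by simp))
        | succ e ihe =>
          rw [pow_succ]
          refine mul_mem_supp ihe hX fun a ha b hb => ?_
          simp only [Set.mem_setOf_eq, map_add] at ha hb ⊢
          push_cast
          rw [add_mul, one_mul]
          omega
      rw [monomial_single_add, map_mul, map_pow, map_add, wd_single]
      exact mul_mem_supp (hpow e) (ih c) fun a ha b hb => by
        simp only [Set.mem_setOf_eq, map_add] at ha hb ⊢; omega

theorem act_mem_Ge {Q : Matrix ι ι R} (hQ : IsUp w Q) {n : ℤ} {f : MvPolynomial (ι × ι) R} (hf : f ∈ Ge R w n) :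
    act Q f ∈ Ge R w n := by
  rw [f.as_sum, map_sum]
  refine Submodule.sum_mem _ fun d hd => ?_
  have hd' : n ≤ wd w d := mem_supp_iff.mp hf d (mem_support_iff.mp hd)
  exact restrictSupport_mono R (fun a (ha : wd w d ≤ wd w a) => hd'.trans ha) (act_monomial_mem_Ge hQ d _)

theorem act_monomial_sub_mem_Lt {Q : Matrix ι ι R} (hQ : IsUniLow w Q) (d : ι × ι →₀ ℕ) :
    ∀ c, act Q (monomial d c) - monomial d c ∈ Lt R w (wd w d) := by
  induction d using Finsupp.induction with
  | zero =>
      intro c
      rw [show monomial 0 c = C c from rfl, show act Q (C c) = C c from AlgHom.commutes _ _, sub_self]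
      exact Submodule.zero_mem _
  | @single_add x e d _ _ ih =>
      intro c
      have hX : act Q (X x) - X x ∈ Lt R w (w x.2) := by
        rw [act_X, show (X x : MvPolynomial (ι × ι) R) = ∑ j, X (x.1, j) * C ((1 : Matrix ι ι R) j x.2) by
          simp [Matrix.one_apply, apply_ite (C (R := R) (σ := ι × ι))], ← Finset.sum_sub_distrib]
        refine Submodule.sum_mem _ fun j _ => ?_
        rw [← mul_sub, ← map_sub]
        by_cases hj : w x.2 ≤ w j
        · rw [hQ j x.2 hj, sub_self, map_zero, mul_zero]; exact Submodule.zero_mem _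
        · rw [mul_comm, C_mul_X_eq_monomial]
          exact mono_mem ( (by simp [wd_single]; omega))
      have step : ∀ (a a' b b' : MvPolynomial (ι × ι) R) (m n : ℤ), a' - a ∈ Lt R w m → a ∈ Le R w m →
          b' - b ∈ Lt R w n → b ∈ Le R w n → a' * b' - a * b ∈ Lt R w (m + n) := by
        intro a a' b b' m n ha ha' hb hb'
        rw [show a' * b' - a * b = (a' - a) * (b' - b) + ((a' - a) * b + a * (b' - b)) by ring]
        refine Submodule.add_mem _ (mul_mem_supp ha hb ?_) (Submodule.add_mem _ (mul_mem_supp ha hb' ?_)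
          (mul_mem_supp ha' hb ?_)) <;>
          · intro p hp q hq
            simp only [Set.mem_setOf_eq, map_add] at hp hq ⊢
            omega
      have hmono : ∀ (d : ι × ι →₀ ℕ) (c : R), monomial d c ∈ Le R w (wd w d) := fun d c =>
        mono_mem (by simp)
      have hpow : ∀ e : ℕ, act Q (X x) ^ e - X x ^ e ∈ Lt R w (e * w x.2) := by
        intro e
        induction e with
        | zero => simp
        | succ e ihe =>
          rw [pow_succ, pow_succ, Nat.cast_succ, add_mul, one_mul]
          refine step _ _ _ _ _ _ ihe ?_ hX ?_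
          · rw [X_pow_eq_monomial, ← wd_single (w := w) x e]; exact hmono _ _
          · have := hmono (Finsupp.single x 1) (1 : R)
            rwa [wd_single, Nat.cast_one, one_mul] at this
      rw [monomial_single_add, map_mul, map_pow, map_add, wd_single]
      refine step _ _ _ _ _ _ (hpow e) ?_ (ih c) (hmono _ _)
      rw [X_pow_eq_monomial, ← wd_single (w := w) x e]; exact hmono _ _

theorem act_sub_mem_Lt {Q : Matrix ι ι R} (hQ : IsUniLow w Q) {n : ℤ} {f : MvPolynomial (ι × ι) R}
    (hf : f ∈ Le R w n) : act Q f - f ∈ Lt R w n := by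
  have e : act Q f - f = ∑ d ∈ f.support, (act Q (monomial d (f.coeff d)) - monomial d (f.coeff d)) := by
    rw [Finset.sum_sub_distrib, ← map_sum, ← f.as_sum]
  rw [e]
  refine Submodule.sum_mem _ fun d hd => ?_
  have hd' : wd w d ≤ n := mem_supp_iff.mp hf d (mem_support_iff.mp hd)
  exact restrictSupport_mono R (fun a (ha : wd w a < wd w d) => ha.trans_le hd') (act_monomial_sub_mem_Lt hQ d _)

variable (R w)

/-- The component of weight `n`. -/
noncomputable abbrev hc (n : ℤ) : MvPolynomial (ι × ι) R →ₗ[R] MvPolynomial (ι × ι) R :=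
  weightedHomogeneousComponent (fun x => w x.2) n

variable {R w}

theorem coeff_hc (n : ℤ) (f : MvPolynomial (ι × ι) R) (d : ι × ι →₀ ℕ) :
    (hc R w n f).coeff d = if wd w d = n then f.coeff d else 0 := coeff_weightedHomogeneousComponent n f d

theorem hc_eq_zero {n : ℤ} {s : Set (ι × ι →₀ ℕ)} {f : MvPolynomial (ι × ι) R} (hf : f ∈ restrictSupport R s)
    (h : ∀ d ∈ s, wd w d ≠ n) : hc R w n f = 0 := by
  ext d
  rw [coeff_hc, coeff_zero]
  split
  · next e => by_contra hne; exact h d (mem_supp_iff.mp hf d hne) e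
  · rfl

theorem hc_eq_self {n : ℤ} {f : MvPolynomial (ι × ι) R} (h1 : f ∈ Ge R w n) (h2 : f ∈ Le R w n) :
    hc R w n f = f := by
  ext d
  rw [coeff_hc]
  split
  · rfl
  · next e =>
    by_contra hne
    have a := mem_supp_iff.mp h1 d (Ne.symm hne)
    have b := mem_supp_iff.mp h2 d (Ne.symm hne)
    exact e (le_antisymm b a)

theorem eq_zero_of_Ge_Lt {n : ℤ} {f : MvPolynomial (ι × ι) R} (h1 : f ∈ Ge R w n) (h2 : f ∈ Lt R w n) :
    f = 0 := by
  ext d
  rw [coeff_zero]
  by_contra hne
  have a : n ≤ wd w d := mem_supp_iff.mp h1 d hne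
  have b : wd w d < n := mem_supp_iff.mp h2 d hne
  omega

end Groth.Agent.DynCell
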