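import Groth.Agent.DynCell.Weight
import Groth.Agent.DynCell.Tri

/-! The attracting subgroups of a one-parameter subgroup as block triangular matrices. -/

universe u

open LaurentPolynomial TensorProduct WithConv Matrix
open scoped Groth.Agent.DynLib

namespace Groth.Agent.DynCell

variable {k : Type u} [Field k] {A : Type u} [CommRing A] [HopfAlgebra k A]
  {lam : A →ₐc[k] k[T;T⁻¹]} {N : ℕ} {R : Type u} [CommRing R] [Algebra k R]

namespace WeightMatrix

variable (D : WeightMatrix lam N)

/-- The matrix of a point. -/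
noncomputable def mat (g : A →ₐ[k] R) : Matrix (Fin N) (Fin N) R := Matrix.of fun i j => g (D.M i j)

theorem mat_mul (f g : WithConv (A →ₐ[k] R)) : D.mat (f * g).ofConv = D.mat f.ofConv * D.mat g.ofConv := by
  ext i j
  show (toConv f.ofConv * toConv g.ofConv).ofConv (D.M i j) = _
  rw [HopfPtLib.convMul_eval, D.isComod.comul, map_sum, map_sum, Matrix.mul_apply]
  simp [mat]

theorem mat_one : D.mat ((1 : WithConv (A →ₐ[k] R)).ofConv) = 1 := by
  ext i j
  simp [mat, AlgHom.convOne_apply, D.isComod.counit, Matrix.one_apply, apply_ite (algebraMap k R)]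

theorem mat_map {S : Type u} [CommRing S] [Algebra k S] (φ : R →ₐ[k] S) (g : A →ₐ[k] R) :
    D.mat (φ.comp g) = (D.mat g).map φ := rfl

theorem hom_ext {g g' : A →ₐ[k] R} (h : D.mat g = D.mat g') : g = g' := by
  refine AlgHom.ext_of_adjoin_eq_top D.gen ?_
  rintro _ ⟨⟨i, j⟩, rfl⟩
  exact congrFun (congrFun h i) j

theorem isUnit_det (g : A →ₐ[k] R) : IsUnit (D.mat g).det := by
  refine IsUnit.of_mul_eq_one (D.mat ((toConv g)⁻¹).ofConv).det ?_
  have h := congrArg Matrix.det (D.mat_mul (toConv g) (toConv g)⁻¹)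
  rw [mul_inv_cancel, D.mat_one, Matrix.det_one, Matrix.det_mul, ofConv_toConv] at h
  exact h.symm

theorem lamR_apply (i j : Fin N) : Dyn.lamR k A lam R (D.M i j) =
    if i = j then AddMonoidAlgebra.single (D.wt j) 1 else 0 := by
  show AddMonoidAlgebra.mapAlgHom ℤ (Algebra.ofId k R) (lam (D.M i j)) = _
  rw [D.diag]
  split
  · ext n
    simp only [AddMonoidAlgebra.coeff_mapAlgHom]
    by_cases hn : n = D.wt j
    · subst hn; simp [-LaurentPolynomial.single_eq_C_mul_T]
    · simp [-LaurentPolynomial.single_eq_C_mul_T, hn, Finsupp.single_apply, Ne.symm hn]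
  · exact map_zero _

theorem conjOrbit_apply (g : A →ₐ[k] R) (i j : Fin N) :
    Dyn.conjOrbit k A lam R g (D.M i j) = AddMonoidAlgebra.single (D.wt i - D.wt j) (g (D.M i j)) := by
  have hl : D.mat (DynLib.lamW lam R).ofConv = Matrix.diagonal fun j => AddMonoidAlgebra.single (D.wt j) (1 : R) := by
    ext i j : 1
    show Dyn.lamR k A lam R (D.M i j) = _
    rw [D.lamR_apply, Matrix.diagonal_apply]
    split
    · next h => rw [h]
    · rfl
  have hli : D.mat ((DynLib.lamW lam R)⁻¹).ofConv =
      Matrix.diagonal fun j => AddMonoidAlgebra.single (- D.wt j) (1 : R) := by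
    have h := D.mat_mul ((DynLib.lamW lam R)⁻¹) (DynLib.lamW lam R)
    rw [inv_mul_cancel, D.mat_one, hl] at h
    calc D.mat ((DynLib.lamW lam R)⁻¹).ofConv = D.mat ((DynLib.lamW lam R)⁻¹).ofConv *
          (Matrix.diagonal (fun j => AddMonoidAlgebra.single (D.wt j) (1 : R)) *
            Matrix.diagonal (fun j => AddMonoidAlgebra.single (- D.wt j) (1 : R))) := by
          rw [Matrix.diagonal_mul_diagonal]
          simp only [AddMonoidAlgebra.single_mul_single, add_neg_cancel, mul_one, ← AddMonoidAlgebra.one_def,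
            Matrix.diagonal_one, Matrix.mul_one]
      _ = _ := by rw [← Matrix.mul_assoc, ← h, Matrix.one_mul]
  have h2 := (D.mat_mul (DynLib.lamW lam R * DynLib.post (DynLib.con k R) (toConv g)) (DynLib.lamW lam R)⁻¹).trans
    (congrArg (· * _) (D.mat_mul (DynLib.lamW lam R) (DynLib.post (DynLib.con k R) (toConv g))))
  rw [hl, hli, Matrix.mul_assoc] at h2
  have h3 := congrFun (congrFun h2 i) j
  rw [Matrix.diagonal_mul, Matrix.mul_diagonal] at h3
  rw [DynLib.conjOrbit_eq, DynLib.conjHom_apply]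
  refine h3.trans ?_
  show AddMonoidAlgebra.single (D.wt i) (1 : R) * (AddMonoidAlgebra.single 0 (g (D.M i j)) *
    AddMonoidAlgebra.single (- D.wt j) (1 : R)) = _
  rw [AddMonoidAlgebra.single_mul_single, AddMonoidAlgebra.single_mul_single, zero_add, one_mul, mul_one,
    sub_eq_add_neg]

theorem coeff_conjOrbit (g : A →ₐ[k] R) (i j : Fin N) (n : ℤ) :
    (Dyn.conjOrbit k A lam R g (D.M i j)).coeff n = if n = D.wt i - D.wt j then g (D.M i j) else 0 := by
  rw [D.conjOrbit_apply]
  simp [Finsupp.single_apply, eq_comm, -LaurentPolynomial.single_eq_C_mul_T]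

theorem limExists_iff (g : A →ₐ[k] R) : Dyn.LimExists k A lam R g ↔ IsUp D.wt (D.mat g) := by
  rw [DynLib.limExists_iff]
  constructor
  · intro h i j hij
    have := h (D.M i j) (D.wt i - D.wt j) (by omega)
    rwa [D.coeff_conjOrbit, if_pos rfl] at this
  · intro h a n hn
    have hle : ∀ a, Dyn.conjOrbit k A lam R g a ∈ (DynLib.toL k R).range := by
      intro a
      have : (⊤ : Subalgebra k A) ≤ (DynLib.toL k R).range.comap (Dyn.conjOrbit k A lam R g) := by
        rw [← D.gen, Algebra.adjoin_le_iff]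
        rintro _ ⟨⟨i, j⟩, rfl⟩
        refine ⟨_, DynLib.toLaurent_trunc _ fun m hm => ?_⟩
        show (Dyn.conjOrbit k A lam R g (D.M i j)).coeff m = 0
        rw [D.coeff_conjOrbit]
        split
        · next e => exact h i j (by omega)
        · rfl
      exact this trivial
    obtain ⟨p, hp⟩ := hle a
    rw [← hp]
    exact DynLib.coeff_toLaurent_neg p hn

theorem limIsOne_iff (g : A →ₐ[k] R) : Dyn.LimIsOne k A lam R g ↔
    ∀ i j, D.wt i ≤ D.wt j → g (D.M i j) = (1 : Matrix (Fin N) (Fin N) R) i j := by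
  constructor
  · rintro ⟨p, hp, h0⟩ i j hij
    rcases hij.lt_or_eq with hlt | he
    · rw [Matrix.one_apply_ne fun e => absurd (e ▸ hlt) (lt_irrefl _)]
      exact (D.limExists_iff g).mp ⟨p, hp⟩ i j hlt
    · have h1 := DFunLike.congr_fun h0 (D.M i j)
      simp only [AlgHom.comp_apply, AlgHom.coe_restrictScalars', Algebra.ofId_apply,
        Bialgebra.counitAlgHom_apply, Polynomial.aeval_def, Polynomial.eval₂_at_zero, D.isComod.counit] at h1
      have h2 : (Dyn.conjOrbit k A lam R g (D.M i j)).coeff ((0 : ℕ) : ℤ) = (p (D.M i j)).coeff 0 := by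
        rw [← hp]
        exact DynLib.coeff_toLaurent_natCast _ 0
      rw [D.coeff_conjOrbit, if_pos (by omega)] at h2
      rw [h2, Matrix.one_apply]
      refine (show (p (D.M i j)).coeff 0 = _ from h1).trans ?_
      simp [apply_ite (algebraMap k R)]
  · intro h
    obtain ⟨p, hp⟩ := (D.limExists_iff g).mpr fun i j hij =>
      (h i j hij.le).trans (Matrix.one_apply_ne fun e => absurd (e ▸ hij) (lt_irrefl _))
    refine ⟨p, hp, AlgHom.ext_of_adjoin_eq_top D.gen ?_⟩
    rintro _ ⟨⟨i, j⟩, rfl⟩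
    simp only [AlgHom.comp_apply, AlgHom.coe_restrictScalars', Algebra.ofId_apply,
      Bialgebra.counitAlgHom_apply, Polynomial.aeval_def, Polynomial.eval₂_at_zero, D.isComod.counit]
    have h2 : (Dyn.conjOrbit k A lam R g (D.M i j)).coeff ((0 : ℕ) : ℤ) = (p (D.M i j)).coeff 0 := by
      rw [← hp]
      exact DynLib.coeff_toLaurent_natCast _ 0
    rw [D.coeff_conjOrbit] at h2
    refine (show (p (D.M i j)).coeff 0 = (p (D.M i j)).coeff 0 from rfl).trans (h2.symm.trans ?_)
    split
    · next e => rw [h i j (by omega), Matrix.one_apply]; simp [apply_ite (algebraMap k R)]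
    · next e =>
      rw [apply_ite (algebraMap k R), map_one, map_zero, if_neg]
      rintro rfl
      simp at e

/-- The weights of the opposite subgroup. -/
noncomputable def neg {lamNeg : A →ₐc[k] k[T;T⁻¹]}
    (hneg : (lamNeg : A →ₐ[k] k[T;T⁻¹]) = Dyn.negParam k A lam) : WeightMatrix lamNeg N where
  M := D.M
  wt j := - D.wt j
  isComod := D.isComod
  gen := D.gen
  diag i j := by
    show (lamNeg : A →ₐ[k] k[T;T⁻¹]) (D.M i j) = _
    rw [hneg]
    show LaurentPolynomial.invert (lam (D.M i j)) = _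
    rw [D.diag]
    split
    · exact LaurentPolynomial.invert_T _
    · exact map_zero _

theorem limIsOne_neg_iff {lamNeg : A →ₐc[k] k[T;T⁻¹]}
    (hneg : (lamNeg : A →ₐ[k] k[T;T⁻¹]) = Dyn.negParam k A lam) (g : A →ₐ[k] R) :
    Dyn.LimIsOne k A lamNeg R g ↔ IsUniLow D.wt (D.mat g) :=
  ((D.neg hneg).limIsOne_iff g).trans
    ⟨fun h i j hij => h i j (neg_le_neg hij), fun h i j hij => h i j (neg_le_neg_iff.mp hij)⟩

end WeightMatrix

end Groth.Agent.DynCell
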