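import Groth.Agent.DynCell.Pts
import Groth.Agent.DynCell.PolyAct
import Mathlib.RingTheory.Polynomial.Basic
import Mathlib.LinearAlgebra.Matrix.ToLinearEquiv
import Mathlib.RingTheory.Ideal.Quotient.Operations

/-! The triangular factors of a point of the group are points of the group. -/

universe u

open MvPolynomial TensorProduct WithConv
open scoped Groth.Agent.DynLib

namespace Groth.Agent.DynCell

variable {k : Type u} [Field k] {A : Type u} [CommRing A] [HopfAlgebra k A]
  {lam : A →ₐc[k] LaurentPolynomial k} {N : ℕ} (D : WeightMatrix lam N)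

namespace WeightMatrix

/-- Evaluation of polynomial functions on the group. -/
noncomputable def pi : MvPolynomial (Fin N × Fin N) k →ₐ[k] A := aeval fun x => D.M x.1 x.2

theorem pi_surjective : Function.Surjective D.pi := by
  rw [← AlgHom.range_eq_top, pi, ← Algebra.adjoin_range_eq_range_aeval]
  exact D.gen

/-- Extension of coefficients. -/
noncomputable abbrev inc (k R : Type u) [CommRing k] [CommRing R] [Algebra k R] :
    MvPolynomial (Fin N × Fin N) k →+* MvPolynomial (Fin N × Fin N) R := MvPolynomial.map (algebraMap k R)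

/-- The universal evaluation over `R`. -/
noncomputable def Psi (R : Type u) [CommRing R] [Algebra k R] :
    MvPolynomial (Fin N × Fin N) R →ₐ[R] R ⊗[k] A :=
  aeval fun x => (1 : R) ⊗ₜ[k] D.M x.1 x.2

variable {R : Type u} [CommRing R] [Algebra k R]

theorem Psi_monomial (d : Fin N × Fin N →₀ ℕ) (r : R) :
    D.Psi R (monomial d r) = r ⊗ₜ[k] D.pi (monomial d 1) := by
  rw [Psi, aeval_monomial, pi, aeval_monomial, map_one, one_mul]
  have h : (d.prod fun x e => ((1 : R) ⊗ₜ[k] D.M x.1 x.2) ^ e) =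
      (1 : R) ⊗ₜ[k] d.prod fun x e => D.M x.1 x.2 ^ e := by
    show _ = Algebra.TensorProduct.includeRight (R := k) (A := R) _
    rw [map_finsuppProd]
    simp [Algebra.TensorProduct.tmul_pow]
  rw [h, Algebra.TensorProduct.algebraMap_apply, Algebra.TensorProduct.tmul_mul_tmul, mul_one, one_mul,
    Algebra.algebraMap_self_apply]

/-- Coefficientwise application of a linear form. -/
noncomputable def coef (l : R →ₗ[k] k) (z : MvPolynomial (Fin N × Fin N) R) : MvPolynomial (Fin N × Fin N) k :=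
  ∑ d ∈ z.support, monomial d (l (z.coeff d))

theorem coeff_coef (l : R →ₗ[k] k) (z : MvPolynomial (Fin N × Fin N) R) (d : Fin N × Fin N →₀ ℕ) :
    (coef l z).coeff d = l (z.coeff d) := by
  rw [coef, coeff_sum]
  simp only [coeff_monomial]
  rw [Finset.sum_ite_eq']
  split
  · rfl
  · next h => rw [notMem_support_iff.mp h, map_zero]

theorem pi_coef (l : R →ₗ[k] k) (z : MvPolynomial (Fin N × Fin N) R) :
    D.pi (coef l z) = TensorProduct.lid k A (l.rTensor A (D.Psi R z)) := by
  conv_rhs => rw [z.as_sum]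
  rw [coef, map_sum, map_sum, map_sum, map_sum]
  refine Finset.sum_congr rfl fun d _ => ?_
  rw [Psi_monomial, LinearMap.rTensor_tmul, TensorProduct.lid_tmul, ← map_smul, smul_monomial, smul_eq_mul, mul_one]

variable (n : ℕ)

/-- Equations of degree at most `n`. -/
noncomputable def W : Submodule k (MvPolynomial (Fin N × Fin N) k) :=
  (RingHom.ker D.pi).restrictScalars k ⊓ restrictTotalDegree (Fin N × Fin N) k n

theorem mem_W {f : MvPolynomial (Fin N × Fin N) k} : f ∈ D.W n ↔ D.pi f = 0 ∧ f.totalDegree ≤ n := by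
  rw [W, Submodule.mem_inf, Submodule.restrictScalars_mem, RingHom.mem_ker, mem_restrictTotalDegree]

variable (R) in
/-- Their span over `R`. -/
noncomputable def WR : Submodule R (MvPolynomial (Fin N × Fin N) R) :=
  Submodule.span R (inc k R '' (D.W n))

theorem Psi_inc (f : MvPolynomial (Fin N × Fin N) k) : D.Psi R (inc k R f) = (1 : R) ⊗ₜ[k] D.pi f := by
  induction f using MvPolynomial.induction_on' with
  | monomial d a =>
    rw [inc, map_monomial, Psi_monomial, show monomial d a = a • monomial d (1 : k) by simp [smul_monomial],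
      map_smul, Algebra.algebraMap_eq_smul_one, TensorProduct.smul_tmul]
  | add p q hp hq => simp only [map_add, hp, hq, TensorProduct.tmul_add]

theorem coef_mem_W {z : MvPolynomial (Fin N × Fin N) R} (h1 : z.totalDegree ≤ n) (h2 : D.Psi R z = 0)
    (l : R →ₗ[k] k) : coef l z ∈ D.W n := by
  refine (D.mem_W n).mpr ⟨by rw [pi_coef, h2, map_zero, map_zero], le_trans ?_ h1⟩
  refine MvPolynomial.totalDegree_finsetSum_le fun d hd => (totalDegree_monomial_le _ _).trans ?_
  exact le_totalDegree hd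

theorem mem_WR_iff {z : MvPolynomial (Fin N × Fin N) R} :
    z ∈ D.WR R n ↔ z.totalDegree ≤ n ∧ D.Psi R z = 0 := by
  constructor
  · intro hz
    suffices h : z ∈ restrictTotalDegree (Fin N × Fin N) R n ⊓ LinearMap.ker (D.Psi R).toLinearMap from
      ⟨(mem_restrictTotalDegree _ _ _).mp h.1, h.2⟩
    refine Submodule.span_le.mpr ?_ hz
    rintro _ ⟨f, hf, rfl⟩
    obtain ⟨hf1, hf2⟩ := (D.mem_W n).mp hf
    refine ⟨(mem_restrictTotalDegree _ _ _).mpr (le_trans ?_ hf2), ?_⟩
    · exact Finset.sup_mono (support_map_subset _ _)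
    · show D.Psi R (inc k R f) = 0
      rw [D.Psi_inc, hf1, TensorProduct.tmul_zero]
  · rintro ⟨h1, h2⟩
    classical
    let b := Module.Free.chooseBasis k R
    let s := z.support.biUnion fun d => (b.repr (z.coeff d)).support
    have hz : z = ∑ i ∈ s, b i • inc k R (coef (b.coord i) z) := by
      ext d
      rw [coeff_sum]
      simp only [coeff_smul, inc, coeff_map, coeff_coef, Module.Basis.coord_apply, smul_eq_mul]
      conv_lhs => rw [← b.linearCombination_repr (z.coeff d), Finsupp.linearCombination_apply, Finsupp.sum]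
      refine Eq.trans ?_ (Finset.sum_congr rfl fun i _ => (Algebra.smul_def _ _).trans (mul_comm _ _))
      by_cases hd : d ∈ z.support
      · refine Finset.sum_subset (fun i hi => Finset.mem_biUnion.mpr ⟨d, hd, hi⟩) fun i _ hi => ?_
        rw [Finsupp.notMem_support_iff.mp hi, zero_smul]
      · simp [notMem_support_iff.mp hd]
    rw [hz]
    exact Submodule.sum_mem _ fun i _ => Submodule.smul_mem _ _
      (Submodule.subset_span ⟨_, D.coef_mem_W n h1 h2 _, rfl⟩)

theorem act_mem_WR (g : A →ₐ[k] R) {z : MvPolynomial (Fin N × Fin N) R} (hz : z ∈ D.WR R n) :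
    act (D.mat g) z ∈ D.WR R n := by
  refine (Submodule.span_le (p := (D.WR R n).comap (act (D.mat g)).toLinearMap)).mpr ?_ hz
  rintro _ ⟨f, hf, rfl⟩
  obtain ⟨hf1, hf2⟩ := (D.mem_W n).mp hf
  refine (D.mem_WR_iff n).mpr ⟨(totalDegree_act _ _).trans ((Finset.sup_mono (support_map_subset _ _)).trans hf2), ?_⟩
  let Φ : A →ₐ[k] R ⊗[k] A :=
    (Algebra.TensorProduct.productMap (Algebra.TensorProduct.includeRight : A →ₐ[k] R ⊗[k] A)
      ((Algebra.TensorProduct.includeLeft (S := k) : R →ₐ[k] R ⊗[k] A).comp g)).comp (Bialgebra.comulAlgHom k A)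
  have key : ((D.Psi R).restrictScalars k).comp (((act (D.mat g)).restrictScalars k).comp
      (MvPolynomial.mapAlgHom (σ := Fin N × Fin N) (Algebra.ofId k R))) = Φ.comp D.pi := by
    refine MvPolynomial.algHom_ext fun x => ?_
    simp only [AlgHom.comp_apply, pi, aeval_X, AlgHom.restrictScalars_apply, MvPolynomial.mapAlgHom_apply, map_X,
      act_X, map_sum, map_mul, Φ, Bialgebra.comulAlgHom_apply, D.isComod.comul, Psi, aeval_C, mat, Matrix.of_apply,
      Algebra.TensorProduct.productMap_apply_tmul, Algebra.TensorProduct.includeRight_apply,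
      Algebra.TensorProduct.includeLeft_apply, Algebra.TensorProduct.algebraMap_apply, Algebra.algebraMap_self_apply]
  show D.Psi R (act (D.mat g) (inc k R f)) = 0
  refine (DFunLike.congr_fun key f).trans ?_
  rw [AlgHom.comp_apply, hf1, map_zero]

theorem act_surjOn_WR (g : A →ₐ[k] R) {z : MvPolynomial (Fin N × Fin N) R} (hz : z ∈ D.WR R n) :
    ∃ y ∈ D.WR R n, act (D.mat g) y = z := by
  refine ⟨act (D.mat ((toConv g)⁻¹).ofConv) z, D.act_mem_WR n _ hz, ?_⟩
  rw [act_act, ← D.mat_mul (toConv g) (toConv g)⁻¹, mul_inv_cancel, D.mat_one, act_one]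

theorem hc_mem_W {f : MvPolynomial (Fin N × Fin N) k} (hf : f ∈ D.W n) (m : ℤ) : hc k D.wt m f ∈ D.W n := by
  let L := LaurentPolynomial k
  let g : A →ₐ[k] L := (lam : A →ₐ[k] LaurentPolynomial k)
  have hz : act (D.mat g) (inc k L f) ∈ D.WR L n := D.act_mem_WR n g (Submodule.subset_span ⟨f, hf, rfl⟩)
  have hco : ∀ (p : MvPolynomial (Fin N × Fin N) k) (d : Fin N × Fin N →₀ ℕ),
      (act (D.mat g) (inc k L p)).coeff d = AddMonoidAlgebra.single (wd D.wt d) (p.coeff d) := by
    intro p
    induction p using MvPolynomial.induction_on with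
    | C a =>
      intro d
      rw [inc, map_C, show act (D.mat g) (C (algebraMap k L a)) = C (algebraMap k L a) from AlgHom.commutes _ _,
        coeff_C, coeff_C]
      split
      · next h =>
        subst h
        rw [map_zero]
        rfl
      · exact (AddMonoidAlgebra.single_zero _).symm
    | add p q hp hq => intro d; simp only [map_add, coeff_add, hp, hq, AddMonoidAlgebra.single_add]
    | mul_X p x hp =>
      intro d
      have hx : act (D.mat g) (X x) = X x * C (AddMonoidAlgebra.single (D.wt x.2) (1 : k)) := by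
        rw [act_X, Finset.sum_eq_single x.2]
        · rw [show D.mat g x.2 x.2 = lam (D.M x.2 x.2) from rfl, D.diag, if_pos rfl]
        · intro j _ hj
          rw [show D.mat g j x.2 = lam (D.M j x.2) from rfl, D.diag, if_neg hj, map_zero, mul_zero]
        · simp
      rw [map_mul, inc, map_X, map_mul, hx, ← mul_assoc, mul_comm _ (C _), coeff_C_mul, coeff_mul_X', coeff_mul_X']
      split
      · next hd =>
        rw [hp, AddMonoidAlgebra.single_mul_single, one_mul]
        congr 1
        conv_rhs => rw [← tsub_add_cancel_of_le (Finsupp.single_le_iff.mpr (Nat.one_le_iff_ne_zero.mpr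
          (Finsupp.mem_support_iff.mp hd)))]
        rw [map_add, wd_single]
        push_cast
        ring
      · rw [mul_zero, AddMonoidAlgebra.single_zero]
  have h := D.coef_mem_W n ((D.mem_WR_iff n).mp hz).1 ((D.mem_WR_iff n).mp hz).2 (cf k m)
  have e : coef (cf k m) (act (D.mat g) (inc k L f)) = hc k D.wt m f := by
    ext d
    rw [coeff_coef, hco, cf_single, coeff_hc]
  rwa [e] at h

theorem inc_hc (f : MvPolynomial (Fin N × Fin N) k) (m : ℤ) :
    hc R D.wt m (inc k R f) = inc k R (hc k D.wt m f) := by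
  ext d
  rw [coeff_hc, inc, coeff_map, coeff_map, coeff_hc]
  split <;> simp

theorem hc_mem_WR {z : MvPolynomial (Fin N × Fin N) R} (hz : z ∈ D.WR R n) (m : ℤ) :
    hc R D.wt m z ∈ D.WR R n := by
  refine (Submodule.span_le (p := (D.WR R n).comap (hc R D.wt m))).mpr ?_ hz
  rintro _ ⟨f, hf, rfl⟩
  exact Submodule.subset_span ⟨_, D.hc_mem_W n hf m, (D.inc_hc f m).symm⟩

theorem exists_graded_basis : ∃ (α : Type u) (_ : Fintype α) (b : α → MvPolynomial (Fin N × Fin N) k) (wb : α → ℤ),
    LinearIndependent k b ∧ Submodule.span k (Set.range b) = D.W n ∧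
      ∀ a, b a ∈ Ge k D.wt (wb a) ∧ b a ∈ Le k D.wt (wb a) := by
  let H : Set (MvPolynomial (Fin N × Fin N) k) := {f | f ∈ D.W n ∧ ∃ m, hc k D.wt m f = f}
  have hH : Submodule.span k H = D.W n := by
    refine le_antisymm (Submodule.span_le.mpr fun f hf => hf.1) fun f hf => ?_
    rw [← sum_weightedHomogeneousComponent (fun x : Fin N × Fin N => D.wt x.2) f,
      finsum_eq_sum _ (weightedHomogeneousComponent_finsupp f)]
    refine Submodule.sum_mem _ fun m _ => Submodule.subset_span ⟨D.hc_mem_W n hf m, m, ?_⟩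
    ext d
    rw [coeff_hc, coeff_hc]
    split <;> rfl
  obtain ⟨bs, hbsub, hbspan, hbli⟩ := exists_linearIndependent k H
  choose wb hwb using fun a : bs => (hbsub a.2).2
  haveI : Module.Finite k (D.W n) := Submodule.finiteDimensional_of_le (inf_le_right (a := (RingHom.ker D.pi).restrictScalars k))
  have hli' : LinearIndependent k (fun a : bs => (⟨a.1, (hbsub a.2).1⟩ : D.W n)) :=
    LinearIndependent.of_comp (D.W n).subtype hbli
  haveI : Finite bs := hli'.finite
  refine ⟨bs, Fintype.ofFinite bs, Subtype.val, wb, hbli, by rw [Subtype.range_coe, hbspan, hH], fun a => ?_⟩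
  have hs : ∀ d, (a.1).coeff d ≠ 0 → wd D.wt d = wb a := fun d hd => by
    by_contra hne
    apply hd
    rw [← hwb a, coeff_hc, if_neg hne]
  exact ⟨mem_supp_iff.mpr fun d hd => (hs d hd).ge, mem_supp_iff.mpr fun d hd => (hs d hd).le⟩

variable {α : Type u} [Fintype α] {b : α → MvPolynomial (Fin N × Fin N) k} {wb : α → ℤ}

theorem eq_zero_of_sum (hb : LinearIndependent k b) (c : α → R) (h : ∑ a, c a • inc k R (b a) = 0) : c = 0 := by
  funext a
  by_contra hne
  let B := Module.Free.chooseBasis k R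
  obtain ⟨i, hi⟩ : ∃ i, B.repr (c a) i ≠ 0 := by
    by_contra hall
    push Not at hall
    exact hne (B.repr.map_eq_zero_iff.mp (Finsupp.ext hall))
  refine hi ((Fintype.linearIndependent_iff.mp hb (fun a => B.coord i (c a)) ?_) a)
  ext d
  have := congrArg (fun z => B.coord i (z.coeff d)) h
  simp only [coeff_sum, coeff_smul, inc, coeff_map, smul_eq_mul, coeff_zero, map_sum, map_zero] at this
  rw [coeff_sum, coeff_zero, ← this]
  refine Finset.sum_congr rfl fun a _ => ?_
  rw [coeff_smul, mul_comm (c a), ← Algebra.smul_def, map_smul, smul_eq_mul, smul_eq_mul, mul_comm]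

theorem inc_mem_supp {s : Set (Fin N × Fin N →₀ ℕ)} {f : MvPolynomial (Fin N × Fin N) k}
    (h : f ∈ restrictSupport k s) : inc k R f ∈ restrictSupport R s := fun d hd => h (support_map_subset _ _ hd)

omit [Fintype α] in
theorem le_lt {m m' : ℤ} (h : m < m') : Le R D.wt m ≤ Lt R D.wt m' :=
  restrictSupport_mono R fun _ hd => lt_of_le_of_lt hd h

omit [Fintype α] in
theorem ge_ge {m m' : ℤ} (h : m ≤ m') : Ge R D.wt m' ≤ Ge R D.wt m :=
  restrictSupport_mono R fun _ hd => le_trans h hd

omit [Fintype α] in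
theorem lt_le {m : ℤ} : Lt R D.wt m ≤ Le R D.wt m :=
  restrictSupport_mono R fun _ (hd : _ < m) => (le_of_lt hd : _ ≤ m)

omit [Fintype α] in
theorem act_mem_Le {v : Matrix (Fin N) (Fin N) R} (hv : IsUniLow D.wt v) {m : ℤ} {f : MvPolynomial (Fin N × Fin N) R}
    (hf : f ∈ Le R D.wt m) : act v f ∈ Le R D.wt m := by
  rw [show act v f = f + (act v f - f) by ring]
  exact Submodule.add_mem _ hf (D.lt_le (act_sub_mem_Lt hv hf))

variable (b wb) in
/-- The mixed family adapted to a threshold. -/
noncomputable def mixed (v p : Matrix (Fin N) (Fin N) R) (m : ℤ) (a : α) : MvPolynomial (Fin N × Fin N) R :=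
  if m ≤ wb a then act p (inc k R (b a)) else act v (inc k R (b a))

theorem mixed_injective (hb : LinearIndependent k b) (hbw : ∀ a, b a ∈ Ge k D.wt (wb a) ∧ b a ∈ Le k D.wt (wb a))
    {v p : Matrix (Fin N) (Fin N) R} (hv : IsUniLow D.wt v) (hp : IsUp D.wt p) (hd : IsUnit p.det) (m : ℤ)
    (c : α → R) (h : ∑ a, c a • mixed b wb v p m a = 0) : c = 0 := by
  let c₁ : α → R := fun a => if m ≤ wb a then c a else 0
  let c₂ : α → R := fun a => if m ≤ wb a then 0 else c a
  have hsum : act p (∑ a, c₁ a • inc k R (b a)) + act v (∑ a, c₂ a • inc k R (b a)) = 0 := by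
    rw [map_sum, map_sum, ← Finset.sum_add_distrib, ← h]
    refine Finset.sum_congr rfl fun a _ => ?_
    simp only [c₁, c₂, mixed, map_smul]
    split <;> simp
  have hGe : act p (∑ a, c₁ a • inc k R (b a)) ∈ Ge R D.wt m := by
    refine act_mem_Ge hp (Submodule.sum_mem _ fun a _ => ?_)
    by_cases hm : m ≤ wb a
    · exact Submodule.smul_mem _ _ (D.ge_ge hm (inc_mem_supp (hbw a).1))
    · simp [c₁, hm]
  have hLt : act v (∑ a, c₂ a • inc k R (b a)) ∈ Lt R D.wt m := by
    rw [map_sum]
    refine Submodule.sum_mem _ fun a _ => ?_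
    by_cases hm : m ≤ wb a
    · simp [c₂, hm]
    · rw [map_smul]
      exact Submodule.smul_mem _ _ (D.le_lt (not_le.mp hm) (D.act_mem_Le hv (inc_mem_supp (hbw a).2)))
  have h0 := eq_zero_of_Ge_Lt hGe (by rw [eq_neg_of_add_eq_zero_left hsum]; exact Submodule.neg_mem _ hLt)
  rw [h0, zero_add] at hsum
  have h1 := eq_zero_of_sum hb c₁ (act_injective hd (h0.trans (map_zero _).symm))
  have h2 := eq_zero_of_sum hb c₂ (act_injective (hv.det_eq_one ▸ isUnit_one) (hsum.trans (map_zero _).symm))
  funext a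
  have e1 := congrFun h1 a
  have e2 := congrFun h2 a
  simp only [c₁, c₂, Pi.zero_apply] at e1 e2 ⊢
  by_cases hm : m ≤ wb a
  · rwa [if_pos hm] at e1
  · rwa [if_neg hm] at e2

theorem exists_split (hb : LinearIndependent k b) (hspan : Submodule.span k (Set.range b) = D.W n)
    (hbw : ∀ a, b a ∈ Ge k D.wt (wb a) ∧ b a ∈ Le k D.wt (wb a))
    {v p : Matrix (Fin N) (Fin N) R} (hv : IsUniLow D.wt v) (hp : IsUp D.wt p) (g : A →ₐ[k] R)
    (hg : v * p = D.mat g) (m : ℤ) {y : MvPolynomial (Fin N × Fin N) R} (hy : y ∈ D.WR R n) :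
    ∃ y₁ ∈ D.WR R n, ∃ y₂ ∈ D.WR R n, act p y₁ ∈ Ge R D.wt m ∧ act p y₂ ∈ Lt R D.wt m ∧ y = y₁ + y₂ := by
  classical
  have hd : IsUnit p.det := by
    have h := D.isUnit_det g
    rwa [← hg, Matrix.det_mul, hv.det_eq_one, one_mul] at h
  have hvd : IsUnit v.det := hv.det_eq_one ▸ isUnit_one
  let v' := v⁻¹
  have hp' : p = v' * D.mat g := by rw [← hg, ← Matrix.mul_assoc, Matrix.nonsing_inv_mul v hvd, Matrix.one_mul]
  have hWR : D.WR R n = Submodule.span R (Set.range fun a => inc k R (b a)) := by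
    refine le_antisymm (Submodule.span_le.mpr ?_) (Submodule.span_mono ?_)
    · rintro _ ⟨f, hf, rfl⟩
      rw [SetLike.mem_coe, ← hspan] at hf
      obtain ⟨c, rfl⟩ := (Submodule.mem_span_range_iff_exists_fun k).mp hf
      rw [map_sum]
      refine Submodule.sum_mem _ fun a _ => ?_
      rw [smul_eq_C_mul, map_mul, inc, map_C, ← smul_eq_C_mul]
      exact Submodule.smul_mem _ _ (Submodule.subset_span ⟨a, rfl⟩)
    · rintro _ ⟨a, rfl⟩
      exact ⟨b a, hspan ▸ Submodule.subset_span (Set.mem_range_self a), rfl⟩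
  -- the image `act p (WR) = act v' (WR)` and its two spanning families
  let S := (D.WR R n).map (act p).toLinearMap
  have hS' : S = Submodule.span R (Set.range fun a => act v' (inc k R (b a))) := by
    have e : S = (D.WR R n).map (act v').toLinearMap := by
      refine le_antisymm ?_ ?_ <;> rintro _ ⟨z, hz, rfl⟩
      · refine ⟨act (D.mat g) z, D.act_mem_WR n g hz, ?_⟩
        show act v' (act (D.mat g) z) = act p z
        rw [act_act, ← hp']
      · obtain ⟨x, hx, rfl⟩ := D.act_surjOn_WR n g hz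
        refine ⟨x, hx, ?_⟩
        show act p x = act v' (act (D.mat g) x)
        rw [act_act, ← hp']
    rw [e, hWR, Submodule.map_span, ← Set.range_comp]
    rfl
  let h := mixed (R := R) b wb v' p m
  have hmem : ∀ a, h a ∈ S := fun a => by
    by_cases hm : m ≤ wb a
    · simp only [h, mixed, if_pos hm]
      exact ⟨_, hWR ▸ Submodule.subset_span (Set.mem_range_self a), rfl⟩
    · simp only [h, mixed, if_neg hm, hS']
      exact Submodule.subset_span (Set.mem_range_self a)
  choose Cc hC using fun a => (Submodule.mem_span_range_iff_exists_fun R).mp (hS' ▸ hmem a)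
  let C : Matrix α α R := Matrix.of Cc
  have hCdet : IsUnit C.det := by
    by_contra hu
    obtain ⟨M, hM, hdM⟩ := exists_max_ideal_of_mem_nonunits hu
    letI := Ideal.Quotient.field M
    let φ := Ideal.Quotient.mkₐ k M
    have h0 : (C.map φ).det = 0 := by
      rw [← AlgHom.mapMatrix_apply, ← AlgHom.map_det]
      exact Ideal.Quotient.eq_zero_iff_mem.mpr hdM
    obtain ⟨c, hc, hc'⟩ := Matrix.exists_vecMul_eq_zero_iff.mpr h0
    refine hc (D.mixed_injective hb hbw (v := v'.map φ) (p := p.map φ) ?_ ?_ ?_ m c ?_)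
    · intro i j hij
      rw [Matrix.map_apply, show v' i j = _ from hv.inv i j hij, Matrix.one_apply, Matrix.one_apply, apply_ite φ, map_one, map_zero]
    · intro i j hij
      rw [Matrix.map_apply, hp i j hij, map_zero]
    · rw [← AlgHom.mapMatrix_apply, ← AlgHom.map_det]
      exact hd.map φ
    · have hmapinc : ∀ f : MvPolynomial (Fin N × Fin N) k,
          MvPolynomial.map (φ : R →+* R ⧸ M) (inc k R f) = inc k (R ⧸ M) f := fun f => by
        rw [inc, inc, MvPolynomial.map_map, AlgHom.comp_algebraMap]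
      have hh : ∀ a, mixed (R := R ⧸ M) b wb (v'.map φ) (p.map φ) m a =
          MvPolynomial.map (φ : R →+* R ⧸ M) (h a) := fun a => by
        simp only [h, mixed]
        split <;> rw [map_act, hmapinc] <;> rfl
      simp only [hh, ← hC, map_sum, smul_eq_C_mul, map_mul, map_C, Finset.mul_sum, ← mul_assoc, ← C.map_apply]
      rw [Finset.sum_comm]
      refine Finset.sum_eq_zero fun a' _ => ?_
      rw [← Finset.sum_mul]
      convert zero_mul _
      rw [← (MvPolynomial.C (σ := Fin N × Fin N) (R := R ⧸ M)).map_zero,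
        show (0 : R ⧸ M) = Matrix.vecMul c (C.map φ) a' from (congrFun hc' a').symm]
      simp only [Matrix.vecMul, dotProduct, Matrix.map_apply, map_sum, map_mul, C, Matrix.of_apply]
      rfl
  have hspanS : S ≤ Submodule.span R (Set.range h) := by
    rw [hS', Submodule.span_le]
    rintro _ ⟨a, rfl⟩
    refine (Submodule.mem_span_range_iff_exists_fun R).mpr ⟨C⁻¹ a, ?_⟩
    simp only [← hC, Finset.smul_sum, smul_smul]
    rw [Finset.sum_comm, Finset.sum_eq_single a]
    · rw [← Finset.sum_smul, show ∑ j, C⁻¹ a j * Cc j a = (C⁻¹ * C) a a from rfl,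
        Matrix.nonsing_inv_mul C hCdet, Matrix.one_apply_eq, one_smul]
    · intro a' _ ha'
      rw [← Finset.sum_smul, show ∑ j, C⁻¹ a j * Cc j a' = (C⁻¹ * C) a a' from rfl,
        Matrix.nonsing_inv_mul C hCdet, Matrix.one_apply_ne (Ne.symm ha'), zero_smul]
    · simp
  have hmain : S ≤ (S ⊓ Ge R D.wt m) ⊔ (S ⊓ Lt R D.wt m) := by
    refine hspanS.trans (Submodule.span_le.mpr ?_)
    rintro _ ⟨a, rfl⟩
    by_cases hm : m ≤ wb a
    · refine Submodule.mem_sup_left ⟨hmem a, ?_⟩
      simp only [h, mixed, if_pos hm]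
      exact act_mem_Ge hp (D.ge_ge hm (inc_mem_supp (hbw a).1))
    · refine Submodule.mem_sup_right ⟨hmem a, ?_⟩
      simp only [h, mixed, if_neg hm]
      exact D.le_lt (not_le.mp hm) (D.act_mem_Le hv.inv (inc_mem_supp (hbw a).2))
  obtain ⟨x₁, ⟨⟨y₁, hy₁, e₁⟩, hx₁⟩, x₂, ⟨⟨y₂, hy₂, e₂⟩, hx₂⟩, e⟩ := Submodule.mem_sup.mp (hmain ⟨y, hy, rfl⟩)
  refine ⟨y₁, hy₁, y₂, hy₂, ?_, ?_, act_injective hd ?_⟩
  · exact (show act p y₁ = x₁ from e₁) ▸ hx₁
  · exact (show act p y₂ = x₂ from e₂) ▸ hx₂
  · rw [map_add, show act p y₁ = x₁ from e₁, show act p y₂ = x₂ from e₂]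
    exact e.symm

theorem act_mem_WR_of_lu {v p : Matrix (Fin N) (Fin N) R} (hv : IsUniLow D.wt v) (hp : IsUp D.wt p)
    (g : A →ₐ[k] R) (hg : v * p = D.mat g) {y : MvPolynomial (Fin N × Fin N) R} (hy : y ∈ D.WR R n) :
    act p y ∈ D.WR R n := by
  classical
  obtain ⟨α, _, b, wb, hb, hspan, hbw⟩ := D.exists_graded_basis n
  rw [← sum_weightedHomogeneousComponent (fun x : Fin N × Fin N => D.wt x.2) (act p y),
    finsum_eq_sum _ (weightedHomogeneousComponent_finsupp _)]
  refine Submodule.sum_mem _ fun m _ => ?_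
  obtain ⟨y₁, hy₁, y₂, hy₂, hG, hL, rfl⟩ := D.exists_split n hb hspan hbw hv hp g hg m hy
  obtain ⟨z₁, hz₁, z₂, hz₂, hG', hL', e⟩ := D.exists_split n hb hspan hbw hv hp g hg (m + 1) hy₁
  have ez : act p z₂ = act p y₁ - act p z₁ := by rw [e, map_add]; ring
  have hzG : act p z₂ ∈ Ge R D.wt m := ez ▸ Submodule.sub_mem _ hG (D.ge_ge (by omega) hG')
  have hzL : act p z₂ ∈ Le R D.wt m := restrictSupport_mono R (fun d hd => Int.lt_add_one_iff.mp hd) hL'
  have hx : hc R D.wt m (act p (y₁ + y₂)) = act p z₂ := by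
    rw [map_add, map_add, hc_eq_zero hL (fun d hd => ne_of_lt hd), add_zero, e, map_add, map_add,
      hc_eq_zero hG' (fun d (hd : m + 1 ≤ _) => by omega), zero_add, hc_eq_self hzG hzL]
  show hc R D.wt m (act p (y₁ + y₂)) ∈ _
  rw [hx]
  -- `x := act p z₂` is the top component of `act v x = act g z₂ ∈ WR`
  have hmul : act v (act p z₂) = act (D.mat g) z₂ := by rw [act_act, hg]
  have htop : hc R D.wt m (act v (act p z₂)) = act p z₂ := by
    have h1 : hc R D.wt m (act v (act p z₂) - act p z₂) = 0 :=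
      hc_eq_zero (act_sub_mem_Lt hv hzL) fun d hd => ne_of_lt hd
    rw [map_sub, sub_eq_zero, hc_eq_self hzG hzL] at h1
    exact h1
  rw [← htop, hmul]
  exact D.hc_mem_WR n (D.act_mem_WR n g hz₂) m

theorem exists_hom_of_lu [Algebra.FiniteType k A] {v p : Matrix (Fin N) (Fin N) R} (hv : IsUniLow D.wt v)
    (hp : IsUp D.wt p) (g : A →ₐ[k] R) (hg : v * p = D.mat g) :
    ∃ g₁ g₂ : A →ₐ[k] R, D.mat g₁ = v ∧ D.mat g₂ = p := by
  obtain ⟨G, hG⟩ := IsNoetherian.noetherian (RingHom.ker D.pi)
  let n := G.sup MvPolynomial.totalDegree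
  have hker : RingHom.ker D.pi ≤ RingHom.ker (aeval (R := k) fun x : Fin N × Fin N => p x.1 x.2) := by
    rw [← hG, Ideal.submodule_span_eq, Ideal.span_le]
    intro f hf
    have hfW : f ∈ D.W n := (D.mem_W n).mpr
      ⟨by rw [← RingHom.mem_ker, ← hG]; exact Submodule.subset_span hf, Finset.le_sup (f := MvPolynomial.totalDegree) hf⟩
    have h1 := D.act_mem_WR_of_lu n hv hp g hg (Submodule.subset_span ⟨f, hfW, rfl⟩)
    have h2 : ∀ z ∈ D.WR R n, aeval (fun x : Fin N × Fin N => (1 : Matrix (Fin N) (Fin N) R) x.1 x.2) z = 0 := by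
      intro z hz
      refine LinearMap.mem_ker.mp ((Submodule.span_le (p := LinearMap.ker
        (aeval fun x : Fin N × Fin N => (1 : Matrix (Fin N) (Fin N) R) x.1 x.2).toLinearMap)).mpr ?_ hz)
      rintro _ ⟨f', hf', rfl⟩
      have e : ((Algebra.ofId k R).comp (Bialgebra.counitAlgHom k A)).comp D.pi =
          aeval fun x : Fin N × Fin N => (1 : Matrix (Fin N) (Fin N) R) x.1 x.2 := by
        refine MvPolynomial.algHom_ext fun x => ?_
        simp [pi, D.isComod.counit, Matrix.one_apply, apply_ite (algebraMap k R)]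
      show aeval _ (inc k R f') = 0
      rw [inc, aeval_map_algebraMap, ← e, AlgHom.comp_apply, ((D.mem_W n).mp hf').1, map_zero]
    have h3 := h2 _ h1
    rw [eval_one_act, inc, aeval_map_algebraMap] at h3
    exact h3
  let g₂ : A →ₐ[k] R :=
    (Ideal.Quotient.liftₐ (RingHom.ker D.pi) (aeval fun x : Fin N × Fin N => p x.1 x.2) hker).comp
      (Ideal.quotientKerAlgEquivOfSurjective D.pi_surjective).symm.toAlgHom
  have hg₂ : D.mat g₂ = p := by
    ext i j
    show g₂ (D.M i j) = _
    rw [show D.M i j = D.pi (X (i, j)) by rw [pi, aeval_X]]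
    simp [g₂]
  refine ⟨(toConv g * (toConv g₂)⁻¹).ofConv, g₂, ?_, hg₂⟩
  have e : D.mat (toConv g * (toConv g₂)⁻¹).ofConv * D.mat g₂ = D.mat g := by
    conv_lhs => rw [show g₂ = (toConv g₂).ofConv from rfl]
    rw [← D.mat_mul]
    simp
  have hd := D.isUnit_det g₂
  rw [hg₂] at e hd
  rw [← hg] at e
  exact ((Matrix.isUnit_iff_isUnit_det p).mpr hd).mul_right_cancel e

end WeightMatrix

end Groth.Agent.DynCell
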