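import Groth.Agent.DynLib.Repr
import Groth.Agent.ComodLib.MatrixComod
import Groth.Agent.ComodLib.Basic
import Groth.Prelude.Def_ComodSub
import Mathlib.LinearAlgebra.FiniteDimensional.Lemmas
import Mathlib.RingTheory.Bialgebra.MonoidAlgebra
import Mathlib.RingTheory.FiniteType

/-! A faithful comodule matrix in which a one-parameter subgroup is diagonal. -/

universe u

open LaurentPolynomial TensorProduct

namespace Groth.Agent.DynCell

variable {k : Type u} [Field k] {A : Type u} [CommRing A] [HopfAlgebra k A]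

/-- Diagonal weights of a one-parameter subgroup in a generating comodule matrix. -/
structure WeightMatrix (lam : A →ₐc[k] k[T;T⁻¹]) (N : ℕ) where
  M : Fin N → Fin N → A
  wt : Fin N → ℤ
  isComod : ComodLib.IsComodMatrix k M
  gen : Algebra.adjoin k (Set.range fun x : Fin N × Fin N => M x.1 x.2) = ⊤
  diag : ∀ i j, lam (M i j) = if i = j then AddMonoidAlgebra.single (wt j) 1 else 0

/-- The linear coefficient functional. -/
noncomputable def cf (k : Type u) [Field k] (n : ℤ) : k[T;T⁻¹] →ₗ[k] k where
  toFun p := p.coeff n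
  map_add' _ _ := rfl
  map_smul' _ _ := rfl

theorem cf_single (n m : ℤ) (r : k) : cf k n (AddMonoidAlgebra.single m r) = if m = n then r else 0 := by
  show (AddMonoidAlgebra.single m r : k[T;T⁻¹]).coeff n = _
  simp [Finsupp.single_apply, -LaurentPolynomial.single_eq_C_mul_T]

theorem cf_mul_comul (n m : ℤ) (p : k[T;T⁻¹]) :
    TensorProduct.lid k k (TensorProduct.map (cf k n) (cf k m) (Coalgebra.comul (R := k) p)) =
      if n = m then cf k n p else 0 := by
  induction p using AddMonoidAlgebra.induction_linear with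
  | zero => simp
  | add f g hf hg => simp only [map_add, hf, hg]; split <;> simp
  | single l r =>
    simp only [AddMonoidAlgebra.comul_single, CommSemiring.comul_apply, TensorProduct.map_tmul,
      TensorProduct.lid_tmul, cf_single, smul_eq_mul]
    by_cases h1 : l = n <;> by_cases h2 : l = m <;> simp_all [eq_comm, cf_single, -LaurentPolynomial.single_eq_C_mul_T]

theorem sum_cf_eq_counit (s : Finset ℤ) (p : k[T;T⁻¹]) (hp : p.coeff.support ⊆ s) :
    ∑ n ∈ s, cf k n p = Coalgebra.counit (R := k) p := by
  conv_rhs => rw [← AddMonoidAlgebra.sum_single p, Finsupp.sum, map_sum]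
  rw [← Finset.sum_subset (f := fun n => cf k n p) hp (fun n _ hn => Finsupp.notMem_support_iff.mp hn)]
  refine Finset.sum_congr rfl fun n _ => ?_
  rw [AddMonoidAlgebra.counit_single]
  rfl

theorem exists_weightMatrix [Algebra.FiniteType k A] (lam : A →ₐc[k] k[T;T⁻¹]) :
    ∃ N : ℕ, Nonempty (WeightMatrix lam N) := by
  classical
  obtain ⟨gens, hgens⟩ := (Algebra.FiniteType.out : (⊤ : Subalgebra k A).FG)
  obtain ⟨U, hUf, hgU, hU⟩ := ComodLib.exists_finite_subcomod_le (k := k) (C := A) (V := A) gens.finite_toSet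
  haveI := hUf
  letI cU : HopfRep.Comod k A U := ComodSub.Comod.restr (HopfRep.Comod.regular k A) U hU
  let φ : ℤ → (A →ₗ[k] k) := fun n => cf k n ∘ₗ (lam : A →ₐ[k] k[T;T⁻¹]).toLinearMap
  let P : ℤ → (U →ₗ[k] U) := fun n =>
    (TensorProduct.rid k U).toLinearMap ∘ₗ LinearMap.lTensor U (φ n) ∘ₗ HopfRep.Comod.coact (k := k) (A := A)
  let B := Module.finBasis k U
  let M₀ : Fin (Module.finrank k U) → Fin (Module.finrank k U) → A := ComodLib.matrixOf B
  have hM₀ : ComodLib.IsComodMatrix k M₀ := ComodLib.isComodMatrix_matrixOf B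
  have hP : ∀ n j, P n (B j) = ∑ i, φ n (M₀ i j) • B i := fun n j => by
    simp only [P, LinearMap.comp_apply, LinearEquiv.coe_coe]
    rw [ComodLib.coact_matrixOf B j, map_sum, map_sum]
    simp [M₀]
  have hφ : ∀ n m i j, ∑ l, φ n (M₀ i l) * φ m (M₀ l j) = if n = m then φ n (M₀ i j) else 0 := by
    intro n m i j
    have h1 := CoalgHomClass.map_comp_comul_apply lam (M₀ i j)
    rw [hM₀.comul, map_sum] at h1
    have h2 := cf_mul_comul n m (lam (M₀ i j))
    rw [← h1, map_sum, map_sum] at h2
    simpa [φ] using h2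
  have horth : ∀ n m x, P n (P m x) = if n = m then P n x else 0 := by
    intro n m
    have : P n ∘ₗ P m = if n = m then P n else 0 := by
      refine B.ext fun j => ?_
      rw [LinearMap.comp_apply, hP, map_sum]
      simp only [map_smul, hP, Finset.smul_sum, smul_smul]
      rw [Finset.sum_comm]
      simp only [← Finset.sum_smul, mul_comm (φ m _), hφ n m]
      split <;> simp [hP]
    intro x
    rw [← LinearMap.comp_apply, this]
    split <;> simp
  let s : Finset ℤ := Finset.univ.biUnion fun x : Fin (Module.finrank k U) × Fin (Module.finrank k U) =>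
    (lam (M₀ x.1 x.2)).coeff.support
  have hsum : ∀ x, ∑ n ∈ s, P n x = x := by
    have : ∑ n ∈ s, P n = LinearMap.id := by
      refine B.ext fun j => ?_
      rw [LinearMap.sum_apply]
      simp only [hP]
      rw [Finset.sum_comm]
      simp only [← Finset.sum_smul]
      rw [LinearMap.id_apply]
      refine (Finset.sum_eq_single j (fun i _ hij => ?_) (by simp)).trans ?_
      · have h1 := sum_cf_eq_counit s (lam (M₀ i j)) (fun n hn => Finset.mem_biUnion.mpr ⟨(i, j), Finset.mem_univ _, hn⟩)
        rw [CoalgHomClass.counit_comp_apply, hM₀.counit, if_neg hij] at h1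
        show (∑ n ∈ s, φ n (M₀ i j)) • B i = 0
        rw [show ∑ n ∈ s, φ n (M₀ i j) = 0 from h1, zero_smul]
      · have h1 := sum_cf_eq_counit s (lam (M₀ j j)) (fun n hn => Finset.mem_biUnion.mpr ⟨(j, j), Finset.mem_univ _, hn⟩)
        rw [CoalgHomClass.counit_comp_apply, hM₀.counit, if_pos rfl] at h1
        show (∑ n ∈ s, φ n (M₀ j j)) • B j = B j
        rw [show ∑ n ∈ s, φ n (M₀ j j) = 1 from h1, one_smul]
    intro x
    rw [← LinearMap.sum_apply, this, LinearMap.id_apply]
  let Hs : Set U := {x | ∃ n, P n x = x}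
  have hspan : Submodule.span k Hs = ⊤ := eq_top_iff.mpr fun x _ => by
    rw [← hsum x]
    exact Submodule.sum_mem _ fun n _ => Submodule.subset_span ⟨n, by rw [horth, if_pos rfl]⟩
  obtain ⟨bs, hbsub, hbspan, hbli⟩ := exists_linearIndependent k Hs
  let e₀ := Module.Basis.mk hbli (le_of_eq (by rw [Subtype.range_coe, hbspan, hspan]))
  haveI : Finite bs := hbli.finite
  haveI := Fintype.ofFinite bs
  let e := e₀.reindex (Fintype.equivFin bs)
  have he : ∀ j, ∃ n, P n (e j) = e j := fun j => by
    have : e j ∈ Hs := by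
      rw [Module.Basis.reindex_apply, Module.Basis.mk_apply]
      exact hbsub ((Fintype.equivFin bs).symm j).2
    exact this
  choose w hw using he
  let M := ComodLib.matrixOf (A := A) e
  have hM : ComodLib.IsComodMatrix k M := ComodLib.isComodMatrix_matrixOf e
  have hPe : ∀ n j, P n (e j) = ∑ i, φ n (M i j) • e i := fun n j => by
    simp only [P, LinearMap.comp_apply, LinearEquiv.coe_coe]
    rw [ComodLib.coact_matrixOf e j, map_sum, map_sum]
    simp [M]
  refine ⟨Fintype.card bs, ⟨⟨M, w, hM, ?_, fun i j => ?_⟩⟩⟩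
  · refine top_unique (hgens.symm.le.trans (Algebra.adjoin_le fun a ha => ?_))
    have hΔ : ∀ j, Coalgebra.comul (R := k) (e j : A) = ∑ i, (e i : A) ⊗ₜ[k] M i j := by
      intro j
      rw [← show _ = Coalgebra.comul (R := k) (e j : A) from
        ComodSub.restr_coact_coe (HopfRep.Comod.regular k A) U hU (e j),
        ComodLib.coact_matrixOf e j, map_sum]
      rfl
    have hej : ∀ j, (e j : A) ∈ Algebra.adjoin k (Set.range fun x : Fin _ × Fin _ => M x.1 x.2) := by
      intro j
      have h1 := congrArg (TensorProduct.lid k A) (Coalgebra.rTensor_counit_comul (R := k) (e j : A))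
      rw [TensorProduct.lid_tmul, one_smul, hΔ, map_sum, map_sum] at h1
      simp only [LinearMap.rTensor_tmul, TensorProduct.lid_tmul] at h1
      rw [← h1]
      exact Subalgebra.sum_mem _ fun i _ => Subalgebra.smul_mem _ (Algebra.subset_adjoin (Set.mem_range_self (i, j))) _
    have : a = ((⟨a, hgU ha⟩ : U) : A) := rfl
    rw [this, ← e.sum_repr ⟨a, hgU ha⟩, Submodule.coe_sum]
    exact Subalgebra.sum_mem _ fun i _ => Subalgebra.smul_mem _ (hej i) _
  · ext n
    have h1 : (if n = w j then e j else 0) = ∑ l, φ n (M l j) • e l := by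
      rw [← hPe, ← hw j, horth]
      split
      · next h => rw [h]
      · rfl
    have h2 := congrArg (fun z => e.repr z i) h1
    have h3 : (e.repr (∑ l, φ n (M l j) • e l)) i = φ n (M i j) := by
      rw [e.repr_sum_self]
    simp only [h3] at h2
    show φ n (M i j) = _
    rw [← h2]
    by_cases hn : n = w j <;> by_cases hij : i = j
    · subst hij; simp [hn]
    · simp [hn, hij, Finsupp.single_apply, Ne.symm hij]
    · subst hij; simp [hn, Ne.symm hn]
    · simp [hn, hij]

end Groth.Agent.DynCell
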